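import Cfsg.Agent.Lib.Recog.SuzThree.Classify

set_option autoImplicit false
set_option linter.unusedSectionVars false

/-!
An element of order three whose commutator group with the core is non-abelian of order eight moves inside a line
(owner: helper22).
-/

namespace CfsgLib.Recog.SuzThree

open CfsgLib.LocalEvenB.SuzType CfsgLib.ThreeTrans

/-- a small set closed under sums lies in a line -/
theorem exists_line (W : Finset Nat) (hx : ∀ u ∈ W, ∀ v ∈ W, u ^^^ v ∈ W) (hc : W.card ≤ 4) :
    ∃ a b, ∀ w ∈ W, w ∈ [0, a, b, a ^^^ b] := by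
  classical
  by_cases h1 : ∀ w ∈ W, w = 0
  · exact ⟨0, 0, fun w hw => by simp [h1 w hw]⟩
  push Not at h1
  obtain ⟨u, hu, hu0⟩ := h1
  by_cases h2 : ∀ w ∈ W, w = 0 ∨ w = u
  · exact ⟨u, 0, fun w hw => by rcases h2 w hw with e | e <;> simp [e]⟩
  push Not at h2
  obtain ⟨v, hv, hv0, hvu⟩ := h2
  refine ⟨u, v, fun w hw => ?_⟩
  have hS : ({0, u, v, u ^^^ v} : Finset Nat) = W := by
    refine Finset.eq_of_subset_of_card_le ?_ ?_
    · intro t ht
      simp only [Finset.mem_insert, Finset.mem_singleton] at ht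
      rcases ht with rfl | rfl | rfl | rfl
      exacts [by simpa using hx u hu u hu, hu, hv, hx u hu v hv]
    · refine le_trans hc (le_of_eq ?_)
      rw [Finset.card_insert_of_notMem, Finset.card_insert_of_notMem, Finset.card_insert_of_notMem,
        Finset.card_singleton]
      · simp only [Finset.mem_singleton]
        intro e
        apply hu0
        calc u = (u ^^^ v) ^^^ v := by rw [Nat.xor_assoc, Nat.xor_self, Nat.xor_zero]
          _ = 0 := by rw [← e, Nat.xor_self]
      · simp [Ne.symm hvu, Nat.xor_eq_zero_iff, hv0, eq_comm (a := u)]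
      · simp [hu0.symm, hv0.symm, Ne.symm (mt Nat.xor_eq_zero_iff.1 hvu.symm)]
  rw [← hS] at hw
  simpa using hw

variable {G : Type*} [Group G] [Finite G] {z : G} {Q : Subgroup G} {p : G → Nat} (h : Sys z Q p)
include h

/-- an element moving only into a group of order eight with non-commuting elements -/
theorem exists_moved {x : G} {R : List Nat} (hx : Acts z Q p x R) (M : Subgroup G) (hM : M ≤ Q)
    (hcard : Nat.card M = 8) (hna : ∃ a ∈ M, ∃ b ∈ M, a * b ≠ b * a)
    (hmem : ∀ q ∈ Q, q * x * q⁻¹ * x⁻¹ ∈ M) : ∃ a b, ∀ n < 64, n ^^^ app R n ∈ [0, a, b, a ^^^ b] := by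
  classical
  obtain ⟨a, ha, b, hb, hab⟩ := hna
  have hzM : z ∈ M := by
    have e := h.comm (hM ha) (hM hb)
    cases hbb : bb (p a) (p b) with
    | false => exact absurd ((h.commute_iff (hM ha) (hM hb)).2 hbb).eq hab
    | true =>
      rw [hbb] at e
      have hm := mul_mem (mul_mem (mul_mem ha hb) (inv_mem ha)) (inv_mem hb)
      rw [e] at hm
      exact hm
  haveI := Fintype.ofFinite M
  let W : Finset Nat := Finset.univ.image fun m : M => p (m : G)
  have hW : ∀ u ∈ W, ∀ v ∈ W, u ^^^ v ∈ W := by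
    intro u hu v hv
    obtain ⟨s, -, rfl⟩ := Finset.mem_image.1 hu
    obtain ⟨t, -, rfl⟩ := Finset.mem_image.1 hv
    exact Finset.mem_image.2 ⟨s * t, Finset.mem_univ _, h.map_mul _ (hM s.2) _ (hM t.2)⟩
  have hWcard : W.card ≤ 4 := by
    have hch : ∀ w : W, ∃ m : M, p (m : G) = w := fun w => by
      obtain ⟨m, -, e⟩ := Finset.mem_image.1 w.2
      exact ⟨m, e⟩
    choose r hr using hch
    let f : W × Bool → M := fun t => r t.1 * ⟨sg z t.2, by cases t.2; exacts [one_mem M, hzM]⟩
    have hf : Function.Injective f := by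
      rintro ⟨u, i⟩ ⟨v, j⟩ e
      have e' : (r u : G) * sg z i = (r v : G) * sg z j := congrArg Subtype.val e
      have hp := congrArg p e'
      rw [h.map_mul _ (hM (r u).2) _ (h.sg_mem i), h.map_mul _ (hM (r v).2) _ (h.sg_mem j), h.p_sg, h.p_sg,
        Nat.xor_zero, Nat.xor_zero, hr, hr] at hp
      obtain rfl := Subtype.ext hp
      exact Prod.ext rfl (h.sg_inj (mul_left_cancel e'))
    have := Fintype.card_le_of_injective f hf
    rw [Fintype.card_prod, Fintype.card_coe, Fintype.card_bool, ← Nat.card_eq_fintype_card (α := M), hcard] at this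
    omega
  obtain ⟨u, v, huv⟩ := exists_line W hW hWcard
  refine ⟨u, v, fun n hn => huv _ ?_⟩
  obtain ⟨q, hq, rfl⟩ := h.surj n hn
  refine Finset.mem_image.2 ⟨⟨_, hmem q hq⟩, Finset.mem_univ _, ?_⟩
  show p (q * x * q⁻¹ * x⁻¹) = _
  rw [show q * x * q⁻¹ * x⁻¹ = q * (x * q⁻¹ * x⁻¹) by group,
    h.map_mul _ hq _ (h.large.conj_mem hx.1 (Q.inv_mem hq)), hx.2 _ (Q.inv_mem hq), h.p_inv hq]

end CfsgLib.Recog.SuzThree
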