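import Cfsg.Agent.Lib.Recog.SuzThree.Swap

set_option autoImplicit false
set_option linter.unusedSectionVars false
set_option maxRecDepth 100000

/-!
The centraliser of the element of order three inside the centraliser of the involution has order `32 * 108`
(owner: helper22).
-/

namespace CfsgLib.Recog.SuzThree

open CfsgLib.LocalEvenB.SuzType CfsgLib.ThreeTrans

variable {G : Type*} [Group G] [Finite G] {z : G} {Q : Subgroup G} {p : G → Nat}

theorem not_acts_odd (h : Sys z Q p) (c : G) : ¬ Acts z Q p c tOdd := by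
  classical
  intro hc
  haveI : Fact (Nat.Prime 2) := ⟨Nat.prime_two⟩
  have hl : tOdd.length = 6 := rfl
  have hcc : c * c ∈ Q := h.mem_of_acts_one (by
    have := h.acts_mul hl hc hc
    rwa [show comp tOdd tOdd = one by decide +kernel] at this)
  obtain ⟨a, m, hm, he⟩ : ∃ a m, ¬ 2 ∣ m ∧ orderOf c = 2 ^ a * m :=
    Nat.exists_eq_pow_mul_and_not_dvd (orderOf_pos c).ne' 2 (by norm_num)
  obtain ⟨i, hi⟩ : Odd m := Nat.odd_iff.2 (by omega)
  have hd : Acts z Q p (c ^ m) tOdd := by
    have hq : (c * c) ^ i ∈ Q := Subgroup.pow_mem _ hcc i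
    have := h.acts_mul (B := tOdd) hl (h.acts_of_mem hq) hc
    rwa [show comp one tOdd = tOdd by decide +kernel,
      show (c * c) ^ i * c = c ^ m by rw [hi, pow_succ, ← pow_two, ← pow_mul]] at this
  set d := c ^ m with hddef
  have hd2 : d ^ 2 ^ a = 1 := by rw [hddef, ← pow_mul, mul_comm m, ← he, pow_orderOf_eq_one]
  obtain ⟨T, hTcard, -, hT⟩ := h.exists_sylow
  set C := Subgroup.centralizer ({z} : Set G) with hC
  have hTC : T ≤ C := fun x hx => by
    obtain ⟨r, -, -, hr⟩ := hT x hx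
    exact mem_centralizer_singleton_iff'.2 hr.1.eq
  have hfac : (Nat.card C).factorization 2 = 13 := by
    rw [h.cardC, show (2 : ℕ) ^ 7 * 25920 = 2 ^ 13 * 405 by norm_num,
      Nat.factorization_def _ Nat.prime_two, padicValNat.mul (by norm_num) (by norm_num),
      padicValNat.prime_pow, padicValNat.eq_zero_of_not_dvd (by norm_num)]
  let P : Sylow 2 C := Sylow.ofCard (T.subgroupOf C)
    (by rw [hfac, Nat.card_congr (Subgroup.subgroupOfEquivOfLe hTC).toEquiv, hTcard])
  let dC : C := ⟨d, mem_centralizer_singleton_iff'.2 hd.1.eq⟩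
  have hp : IsPGroup 2 (Subgroup.zpowers dC) := by
    obtain ⟨j, -, hj⟩ := (Nat.dvd_prime_pow Nat.prime_two).1 (orderOf_dvd_of_pow_eq_one hd2)
    exact IsPGroup.of_card (n := j) (by rw [Nat.card_zpowers, ← hj, Subgroup.orderOf_mk])
  obtain ⟨R, hR⟩ := hp.exists_le_sylow
  obtain ⟨g, hg⟩ := MulAction.exists_smul_eq C R P
  have hmem : g * dC * g⁻¹ ∈ (P : Subgroup C) := by
    rw [← hg, Sylow.coe_subgroup_smul]
    exact ⟨_, hR (Subgroup.mem_zpowers dC), rfl⟩
  obtain ⟨r, hr, hrl, hract⟩ := hT _ (Subgroup.mem_subgroupOf.1 hmem)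
  have hgz : Commute (g : G) z := mem_centralizer_singleton_iff'.1 g.2
  obtain ⟨W, hW, hWg⟩ := h.exists_acts hgz
  have hconj : ∀ n < 64, app r.1 (app W n) = app W (app tOdd n) := by
    intro n hn
    obtain ⟨q, hq, rfl⟩ := h.surj n hn
    rw [← hWg.2 q hq, ← hract.2 _ (h.large.conj_mem hgz hq), ← hd.2 q hq, ← hWg.2 _ (h.large.conj_mem hd.1 hq)]
    congr 1
    show ((g : G) * d * (g : G)⁻¹) * ((g : G) * q * (g : G)⁻¹) * ((g : G) * d * (g : G)⁻¹)⁻¹ = _
    group
  have hinj : ∀ n < 64, ∀ m < 64, app W n = app W m → n = m := fun n hn m hm e => h.app_inj hWg hn hm e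
  have hf := tOdd_fix
  simp only [Bool.and_eq_true, decide_eq_true_eq, List.all_eq_true] at hf
  refine hf.2 r hr (Eq.trans ?_ hf.1)
  rw [← List.toFinset_card_of_nodup (List.nodup_range.filter _),
    ← List.toFinset_card_of_nodup (List.nodup_range.filter _)]
  symm
  refine Finset.card_bij (fun n _ => app W n) ?_ ?_ ?_
  · intro n hn
    simp only [List.mem_toFinset, List.mem_filter, List.mem_range, fixB, beq_iff_eq] at hn ⊢
    exact ⟨(hW.2 n hn.1).1, by rw [hconj n hn.1, hn.2]⟩
  · intro n hn m hm e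
    simp only [List.mem_toFinset, List.mem_filter, List.mem_range] at hn hm
    exact hinj n hn.1 m hm.1 e
  · intro n hn
    simp only [List.mem_toFinset, List.mem_filter, List.mem_range, fixB, beq_iff_eq] at hn
    obtain ⟨k, hk, rfl⟩ := h.app_surj hWg n hn.1
    refine ⟨k, ?_, rfl⟩
    simp only [List.mem_toFinset, List.mem_filter, List.mem_range, fixB, beq_iff_eq]
    exact ⟨hk, hinj _ ((isoB_iff.1 (by decide +kernel : isoB tOdd = true)).2 k hk).1 _ hk
      ((hconj k hk).symm.trans hn.2)⟩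

namespace Std

variable {y : G} (S : Std z Q p y)
include S

/-- every element of the centraliser acts by one of the listed maps -/
theorem acts_cent {c : G} (hcz : Commute c z) (hcy : Commute c y) : ∃ A ∈ centMaps, Acts z Q p c A := by
  obtain ⟨A, hA, hc⟩ := S.sys.exists_acts hcz
  have hcomm : ∀ n < 64, app A (app rOne n) = app rOne (app A n) := by
    intro n hn
    obtain ⟨q, hq, rfl⟩ := S.sys.surj n hn
    rw [← S.act.2 q hq, ← hc.2 _ (S.sys.large.conj_mem S.act.1 hq), ← hc.2 q hq,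
      ← S.act.2 _ (S.sys.large.conj_mem hcz hq)]
    congr 1
    calc c * (y * q * y⁻¹) * c⁻¹ = (c * y) * q * (c * y)⁻¹ := by group
      _ = _ := by rw [hcy.eq]; group
  have hrot := rot_facts
  simp only [Bool.and_eq_true, List.all_eq_true, List.mem_range, fixB, beq_iff_eq, List.contains_iff_mem] at hrot
  have hbasis := basis_facts
  simp only [Bool.and_eq_true, Bool.not_eq_true', beq_iff_eq] at hbasis
  obtain ⟨⟨⟨⟨⟨⟨⟨⟨⟨⟨⟨⟨b12, b48⟩, b14⟩, b24⟩, b18⟩, b28⟩, q1⟩, q2⟩, q4⟩, q8⟩, q16⟩, r16⟩, -⟩ := hbasis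
  have hfix : ∀ e < 64, app rOne e = e → app A e < 16 := by
    intro e he hfe
    have h1 := (hrot.2 (app A e) (hA.2 e he).1).1.1.1
    rw [← hcomm e he, hfe] at h1
    simpa using h1.symm
  have hbb : ∀ a < 64, ∀ b < 64, bb (app A a) (app A b) = bb a b := fun a ha b hb => Iso.bb_app hA ha hb
  have hne : ∀ a < 64, ∀ b < 64, bb a b = true → app A a ≠ 0 := by
    intro a ha b hb h e
    have := hbb a ha b hb
    rw [e, h] at this
    have h0 : ∀ n < 64, bb 0 n = false := by decide +kernel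
    rw [h0 _ (hA.2 b hb).1] at this
    exact Bool.noConfusion this
  have f1 := hfix 1 (by norm_num) (by decide +kernel)
  have f2 := hfix 2 (by norm_num) (by decide +kernel)
  have f4 := hfix 4 (by norm_num) (by decide +kernel)
  have f8 := hfix 8 (by norm_num) (by decide +kernel)
  have hsing : ∀ e < 64, qb e = false → app A e < 16 → app A e ≠ 0 → app A e ∈ singF := by
    intro e he hq hlt h0
    simp only [singF, List.mem_filter, List.mem_range, Bool.and_eq_true, Bool.not_eq_true', bne_iff_ne]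
    exact ⟨hlt, by rw [(hA.2 e he).2, hq], h0⟩
  have h16 : app A 16 ∈ [16, 32, 48] := by
    have h1 := (hrot.2 (app A 32) (hA.2 32 (by norm_num)).1).1.1.2
    rw [← hcomm 32 (by norm_num), ← app_xor, show 32 ^^^ app rOne 32 = 16 by decide +kernel] at h1
    simp only [planeOne, List.mem_cons, List.not_mem_nil, or_false] at h1 ⊢
    refine h1.resolve_left fun e => ?_
    have := (hA.2 16 (by norm_num)).2
    rw [e, q16] at this
    exact absurd this (by decide +kernel)
  have hcand : A ∈ candC := by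
    rw [six_list hA.1]
    simp only [candC, List.mem_flatMap, List.mem_map, List.mem_filter, Bool.and_eq_true, Bool.not_eq_true']
    refine ⟨_, h16, _, hsing 1 (by norm_num) q1 f1 (hne 1 (by norm_num) 2 (by norm_num) b12), _,
      ⟨hsing 2 (by norm_num) q2 f2 (hne 2 (by norm_num) 1 (by norm_num) (bb_comm 2 1 ▸ b12)), ?_⟩, _,
      ⟨hsing 4 (by norm_num) q4 f4 (hne 4 (by norm_num) 8 (by norm_num) b48), ?_, ?_⟩, _,
      ⟨hsing 8 (by norm_num) q8 f8 (hne 8 (by norm_num) 4 (by norm_num) (bb_comm 8 4 ▸ b48)), ⟨?_, ?_⟩, ?_⟩, ?_⟩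
    · rw [hbb 1 (by norm_num) 2 (by norm_num), b12]
    · rw [hbb 1 (by norm_num) 4 (by norm_num), b14]
    · rw [hbb 2 (by norm_num) 4 (by norm_num), b24]
    · rw [hbb 1 (by norm_num) 8 (by norm_num), b18]
    · rw [hbb 2 (by norm_num) 8 (by norm_num), b28]
    · rw [hbb 4 (by norm_num) 8 (by norm_num), b48]
    · rw [← hcomm 16 (by norm_num), r16]
  have hok := List.all_eq_true.1 candC_ok A hcand
  simp only [Bool.or_eq_true, List.contains_iff_mem] at hok
  refine ⟨A, hok.resolve_right fun hB => ?_, hc⟩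
  obtain ⟨⟨B, w⟩, hBw, hBe⟩ := List.mem_map.1 hB
  have hw := List.all_eq_true.1 centList_words _ hBw
  simp only [Bool.and_eq_true, beq_iff_eq] at hw
  obtain ⟨hl, d, hd⟩ := S.sys.acts_word w
  replace hd : Acts z Q p d (comp A tOdd) := by rw [← hBe, hw.1]; exact hd
  obtain ⟨A', hA', hci⟩ := S.sys.exists_acts hcz.inv_left
  refine not_acts_odd S.sys (c⁻¹ * d) ⟨hcz.inv_left.mul_left hd.1, fun q hq => ?_⟩
  have e1 : p (c⁻¹ * d * q * (c⁻¹ * d)⁻¹) = app A' (app A (app tOdd (p q))) := by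
    rw [← app_comp (by rfl : tOdd.length = 6), ← hd.2 q hq, ← hci.2 _ (S.sys.large.conj_mem hd.1 hq)]
    congr 1
    group
  rw [e1]
  obtain ⟨r, hr, hrp⟩ := S.sys.surj (app tOdd (p q))
    ((isoB_iff.1 (by decide +kernel : isoB tOdd = true)).2 _ (S.sys.lt q hq)).1
  rw [← hrp, ← hc.2 r hr, ← hci.2 _ (S.sys.large.conj_mem hcz hr)]
  congr 1
  group

/-- every listed map is induced by an element of the centraliser -/
theorem exists_cent {A : List Nat} (hA : A ∈ centMaps) : ∃ c, Acts z Q p c A ∧ Commute c y := by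
  obtain ⟨⟨B, w⟩, hBw, rfl⟩ := List.mem_map.1 hA
  have hw := List.all_eq_true.1 centList_words _ hBw
  simp only [Bool.and_eq_true, beq_iff_eq] at hw
  obtain ⟨c, hc, he⟩ := S.exists_conj w hw.1 rfl (by decide +kernel) hw.2 S.cube S.act
  exact ⟨c, hc, mul_inv_eq_iff_eq_mul.1 he⟩

theorem mem_core_iff {a : G} (ha : a ∈ Q) : Commute y a ↔ p a < 16 := by
  have hrot := rot_facts
  simp only [Bool.and_eq_true, List.all_eq_true, List.mem_range, fixB, beq_iff_eq] at hrot
  have h1 := (hrot.2 (p a) (S.sys.lt a ha)).1.1.1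
  constructor
  · intro hc
    have : app rOne (p a) = p a := by rw [← S.act.2 a ha, hc.eq, mul_inv_cancel_right]
    simpa [this] using h1.symm
  · intro h16
    exact commute_of_fix S.sys S.cube S.act ha (by simpa [h16] using h1)

/-- the fixed core has order 32 -/
theorem card_core : Nat.card ↥(Q ⊓ Subgroup.centralizer ({y} : Set G)) = 32 := by
  classical
  choose r hr hpr using S.sys.surj
  let f : Fin 16 × Bool → ↥(Q ⊓ Subgroup.centralizer ({y} : Set G)) := fun x =>
    ⟨r x.1 (by omega) * sg z x.2, ⟨Q.mul_mem (hr _ _) (S.sys.sg_mem _), mem_centralizer_singleton_iff'.2 ((((S.mem_core_iff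
      (Q.mul_mem (hr _ _) (S.sys.sg_mem _))).2 (by
        rw [S.sys.map_mul _ (hr _ _) _ (S.sys.sg_mem _), hpr, S.sys.p_sg, Nat.xor_zero]; exact x.1.2))).symm.eq)⟩⟩
  have hf : Function.Bijective f := by
    constructor
    · rintro ⟨i, b⟩ ⟨j, b'⟩ e
      have e' : r i (by omega) * sg z b = r j (by omega) * sg z b' := congrArg Subtype.val e
      have hp := congrArg p e'
      rw [S.sys.map_mul _ (hr _ _) _ (S.sys.sg_mem _), S.sys.map_mul _ (hr _ _) _ (S.sys.sg_mem _), hpr, hpr,
        S.sys.p_sg, S.sys.p_sg, Nat.xor_zero, Nat.xor_zero] at hp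
      obtain rfl : i = j := Fin.ext hp
      exact Prod.ext rfl (S.sys.sg_inj (mul_left_cancel e'))
    · rintro ⟨a, haQ, hay⟩
      have h16 := (S.mem_core_iff haQ).1 (mem_centralizer_singleton_iff'.1 hay).symm
      obtain ⟨i, e⟩ := S.sys.eq_of_p (hr (p a) (S.sys.lt a haQ)) haQ (hpr _ _)
      exact ⟨(⟨p a, h16⟩, i), Subtype.ext e.symm⟩
  rw [← Nat.card_eq_of_bijective f hf, Nat.card_prod, Nat.card_fin, Nat.card_eq_fintype_card, Fintype.card_bool]

/-- the order of the centraliser -/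
theorem card_cent :
    Nat.card ↥(Subgroup.centralizer ({z} : Set G) ⊓ Subgroup.centralizer ({y} : Set G)) = 3456 := by
  classical
  have hlift : ∀ i : Fin centMaps.length, ∃ c, Acts z Q p c (centMaps[(i : ℕ)]'i.2) ∧ Commute c y :=
    fun i => S.exists_cent (List.getElem_mem i.2)
  choose cl hcl hcly using hlift
  let f : Fin centMaps.length × ↥(Q ⊓ Subgroup.centralizer ({y} : Set G)) →
      ↥(Subgroup.centralizer ({z} : Set G) ⊓ Subgroup.centralizer ({y} : Set G)) := fun x =>
    ⟨cl x.1 * x.2, ⟨mem_centralizer_singleton_iff'.2 ((hcl x.1).1.mul_left (S.sys.large.commute_z x.2.2.1)).eq,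
      mem_centralizer_singleton_iff'.2 ((hcly x.1).mul_left (mem_centralizer_singleton_iff'.1 x.2.2.2)).eq⟩⟩
  have hlen : ∀ i : Fin centMaps.length, (centMaps[(i : ℕ)]'i.2).length = 6 := fun i => by
    have := List.all_eq_true.1 centMaps_comm _ (List.getElem_mem i.2)
    simp only [Bool.and_eq_true] at this
    exact (isoB_iff.1 this.2).1
  have hmem : ∀ i (q : G), q ∈ Q → Acts z Q p (cl i * q) (centMaps[(i : ℕ)]'i.2) := fun i q hq => by
    have := S.sys.acts_mul (show one.length = 6 from rfl) (hcl i) (S.sys.acts_of_mem hq)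
    rwa [show comp (centMaps[(i : ℕ)]'i.2) one = centMaps[(i : ℕ)]'i.2 from eq_of_app rfl (hlen i) fun n hn => by
      rw [app_comp rfl, app_one n (by revert n; decide)]] at this
  have hf : Function.Bijective f := by
    constructor
    · rintro ⟨i, q⟩ ⟨j, r⟩ e
      have e' : cl i * (q : G) = cl j * (r : G) := congrArg Subtype.val e
      have hij := S.sys.acts_unique (hlen i) (hlen j) (hmem i q q.2.1) (e' ▸ hmem j r r.2.1)
      obtain rfl : i = j := Fin.ext ((List.Nodup.getElem_inj_iff centList_nodup.2).1 hij)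
      exact Prod.ext rfl (Subtype.ext (mul_left_cancel e'))
    · rintro ⟨c, hcz, hcy⟩
      have hcy' : Commute c y := mem_centralizer_singleton_iff'.1 hcy
      obtain ⟨A, hA, hc⟩ := S.acts_cent (mem_centralizer_singleton_iff'.1 hcz) hcy'
      obtain ⟨i, hi, rfl⟩ := List.getElem_of_mem hA
      exact ⟨⟨⟨i, hi⟩, ⟨(cl ⟨i, hi⟩)⁻¹ * c, S.sys.inv_mul_mem (hcl _) hc,
        mem_centralizer_singleton_iff'.2 ((hcly _).inv_left.mul_left hcy').eq⟩⟩, Subtype.ext (mul_inv_cancel_left _ _)⟩
  rw [← Nat.card_eq_of_bijective f hf, Nat.card_prod, Nat.card_fin, S.card_core,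
    show centMaps.length = 108 by simp [centMaps, centList_nodup.1]]

end Std

end CfsgLib.Recog.SuzThree
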