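import Cfsg.Agent.Lib.Recog.SuzThree.Product

set_option autoImplicit false
set_option linter.unusedSectionVars false
set_option maxRecDepth 100000

/-!
The centraliser of the element of order three modulo that element has the involution data of PSU(4,3)
(owner: helper22).
-/

namespace CfsgLib.Recog.SuzThree

open CfsgLib.LocalEvenB.SuzType CfsgLib.ThreeTrans
open CfsgLib.Recog.UFourThree (SL23 sl kx' iu qList)

theorem core_bits : (nineMaps.all fun N => N.length == 6) ∧ [1, 2, 4, 8].all (fun n => decide (n < 16)) = true ∧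
    (∀ n < 16, bb n 1 = false → bb n 2 = false → bb n 4 = false → bb n 8 = false → n = 0) ∧
    one ∈ nineMaps := by
  refine ⟨?_, ?_, ?_, ?_⟩ <;> decide +kernel

theorem cube_pow {G : Type*} [Group G] {y : G} (hy : y * y * y = 1) {n : ℕ} (h : y ^ (2 * n) = 1) : y ^ n = 1 := by
  calc y ^ n = y ^ (4 * n) := by
        rw [show 4 * n = 3 * n + n by ring, pow_add, pow_mul, pow_succ y 2, pow_two, hy, one_pow, one_mul]
    _ = 1 := by rw [show 4 * n = 2 * n + 2 * n by ring, pow_add, h, one_mul]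

section

variable {G : Type*} [Group G] {z : G} {Q : Subgroup G} {p : G → Nat} {y : G} {φ : SL23 × SL23 →* G}
  (F : Fac z Q p y φ)
include F

theorem Fac.inj {a b : SL23 × SL23} {n : ℕ} (h : φ a = φ b * y ^ n) : a = b ∨ a = b * (-1, -1) := by
  rcases F.ker (b⁻¹ * a) n (by rw [map_mul, map_inv, h, inv_mul_cancel_left]) with e | e
  · exact Or.inl (inv_mul_eq_one.1 e).symm
  · exact Or.inr (inv_mul_eq_iff_eq_mul.1 e)

theorem Fac.kx_inj {a b : ℕ} (ha : a ∈ qList) (hb : b ∈ qList) (h : kx' φ a = kx' φ b) : a = b := by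
  have h1 := UFourThree.q_isK ha
  have h2 := UFourThree.q_isK hb
  have la := UFourThree.xa_lt h1.1
  have lb := UFourThree.xa_lt h2.1
  rcases F.inj (a := (sl (UFourThree.xa a), sl (UFourThree.xb a))) (b := (sl (UFourThree.xa b), sl (UFourThree.xb b)))
      (n := 0) (by rw [pow_zero, mul_one]; exact h) with e | e
  · rw [Prod.mk.injEq] at e
    rw [← UFourThree.can_parts h1, ← UFourThree.can_parts h2, UFourThree.sl_inj (by omega) (by omega) e.1,
      UFourThree.sl_inj (UFourThree.xb_lt a) (UFourThree.xb_lt b) e.2]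
  · exfalso
    have e' := congrArg Prod.fst e
    simp only [Prod.fst_mul, mul_neg, mul_one] at e'
    rw [← UFourThree.sl_ng (by omega)] at e'
    have := UFourThree.sl_inj (by omega) (UFourThree.ng_lt _) e'
    simp only [UFourThree.ng] at this
    omega

end

variable {G : Type*} [Group G] [Finite G] {z : G} {Q : Subgroup G} {p : G → Nat}

namespace Std

variable {y : G} (S : Std z Q p y)
include S

/-- an element centralising everything modulo the rotation lies in it or in its coset at the involution -/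
theorem cent_fac {φ : SL23 × SL23 →* G} (F : Fac z Q p y φ) {c : G} (hcz : Commute c z) (hcy : Commute c y)
    (hall : ∀ x, ∃ n : ℕ, c * φ x * c⁻¹ = φ x * y ^ n) : ∃ n : ℕ, c = y ^ n ∨ c = z * y ^ n := by
  obtain ⟨-, h16, hperp, hone⟩ := core_bits
  have hcom : ∀ a ∈ Q, Commute y a → Commute c a := by
    intro a ha hya
    obtain ⟨x, rfl⟩ := F.surj a one hone (S.sys.acts_of_mem ha) hya.symm
    obtain ⟨n, hn⟩ := hall x
    have hm : y ^ n ∈ Q := by
      have := Q.mul_mem (Q.inv_mem ha) (S.sys.large.conj_mem hcz ha)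
      rwa [hn, inv_mul_cancel_left] at this
    have h2 : y ^ (2 * n) = 1 := by
      have h1 := S.sys.sq _ hm
      have h3 : (y ^ n) ^ 3 = 1 := by rw [← pow_mul, mul_comm, pow_mul, pow_succ, pow_two, S.cube, one_pow]
      rw [pow_succ, pow_two, h1] at h3
      have h4 : sg z (qb (p (y ^ n))) = 1 := by
        have h5 := congrArg (fun t => p t) h3
        rw [S.sys.map_mul _ (S.sys.sg_mem _) _ hm, S.sys.p_sg, Nat.zero_xor, S.sys.p_one] at h5
        rw [h5, show qb 0 = false by decide +kernel]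
        rfl
      rw [mul_comm, pow_mul, pow_two, h1, h4]
    rw [cube_pow S.cube h2, mul_one] at hn
    exact mul_inv_eq_iff_eq_mul.1 hn
  obtain ⟨A, hA, hc⟩ := S.acts_cent hcz hcy
  have hfix : ([1, 2, 4, 8].all fun n => app A n == n) = true := by
    simp only [List.all_eq_true, beq_iff_eq]
    intro n hn
    obtain ⟨a, ha, rfl⟩ := S.sys.surj n (by simp at hn; omega)
    have h := List.all_eq_true.1 h16 _ hn
    rw [← hc.2 a ha, (hcom a ha ((S.mem_core_iff ha).2 (by simpa using h))).eq, mul_inv_cancel_right]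
  have := List.all_eq_true.1 fix_perp A hA
  simp only [hfix, Bool.not_true, Bool.false_or, Bool.or_eq_true, beq_iff_eq] at this
  have hm : ∃ k : ℕ, Acts z Q p (y ^ k) A := by
    rcases this with (rfl | rfl) | rfl
    · exact ⟨0, by rw [pow_zero]; exact S.sys.acts_one⟩
    · exact ⟨1, by rw [pow_one]; exact S.act⟩
    · exact ⟨2, by rw [pow_two]; exact S.act_sq⟩
  obtain ⟨k, hk⟩ := hm
  set q := (y ^ k)⁻¹ * c with hq
  have hqQ : q ∈ Q := S.sys.inv_mul_mem hk hc
  have hyq : Commute y q := ((Commute.pow_self y k).symm.inv_right.mul_right hcy.symm)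
  have hq0 : p q = 0 := by
    have hb : ∀ n ∈ [1, 2, 4, 8], bb (p q) n = false := by
      intro n hn
      obtain ⟨a, ha, rfl⟩ := S.sys.surj n (by simp at hn; omega)
      have h := List.all_eq_true.1 h16 _ hn
      have hya := (S.mem_core_iff ha).2 (by simpa using h)
      exact (S.sys.commute_iff hqQ ha).1 (((hya.pow_left k).inv_left).mul_left (hcom a ha hya))
    exact hperp _ ((S.mem_core_iff hqQ).1 hyq) (hb 1 (by simp)) (hb 2 (by simp)) (hb 4 (by simp)) (hb 8 (by simp))
  refine ⟨k, ?_⟩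
  rcases S.sys.ker _ hqQ hq0 with e | e
  · exact Or.inl (by rw [← mul_inv_cancel_left (y ^ k) c, ← hq, e, mul_one])
  · refine Or.inr ?_
    rw [← mul_inv_cancel_left (y ^ k) c, ← hq, e, (S.act.1.pow_left k).eq]

/-- the data of PSU(4,3) -/
theorem exists_base (hn : ∃ g : G, g * z * g⁻¹ ∈ Q ∧ g * z * g⁻¹ ≠ z) {H : Type*} [Group H] [Finite H]
    (π : Subgroup.centralizer ({y} : Set G) →* H) (hsurj : Function.Surjective π)
    (hker : ∀ x, π x = 1 ↔ (x : G) ∈ Subgroup.zpowers y) :
    ∃ (B : UFourThree.Base H) (w : Subgroup.centralizer ({y} : Set G)),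
      B.φ (sl 3, 1) = π w ∧ Acts z Q p w rTwo ∧ (w : G) * w * w = 1 ∧
      ∃ φ : SL23 × SL23 →* G, Fac z Q p y φ ∧
        ∀ x (hx : φ x ∈ Subgroup.centralizer ({y} : Set G)), B.φ x = π ⟨φ x, hx⟩ := by
  classical
  obtain ⟨φ, F⟩ := S.exists_fac
  have hmem : ∀ {c : G}, Commute c y → c ∈ (Subgroup.centralizer ({y} : Set G)) := fun h => mem_centralizer_singleton_iff'.2 h
  have hcy : ∀ c : (Subgroup.centralizer ({y} : Set G)), Commute (c : G) y := fun c => mem_centralizer_singleton_iff'.1 c.2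
  let φ' : SL23 × SL23 →* (Subgroup.centralizer ({y} : Set G)) := φ.codRestrict (Subgroup.centralizer ({y} : Set G)) fun x => hmem (F.comm_y x)
  have hφ' : ∀ x, ((φ' x : (Subgroup.centralizer ({y} : Set G))) : G) = φ x := fun _ => rfl
  let zC : (Subgroup.centralizer ({y} : Set G)) := ⟨z, hmem S.act.1.symm⟩
  have hzero : y ^ 3 = 1 := by rw [pow_succ, pow_two, S.cube]
  have heq : ∀ a b : (Subgroup.centralizer ({y} : Set G)), π a = π b → ∃ n : ℕ, (a : G) = b * y ^ n := by
    intro a b e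
    have h1 : π (b⁻¹ * a) = 1 := by rw [map_mul, map_inv, e, inv_mul_cancel]
    obtain ⟨n, hn⟩ := mem_powers_iff_mem_zpowers.2 ((hker _).1 h1)
    exact ⟨n, by rw [show y ^ n = ((b : G))⁻¹ * a from hn, mul_inv_cancel_left]⟩
  have hinv : ∀ {x : G} {n : ℕ}, x * x = 1 → Commute x y → (x * y ^ n) * (x * y ^ n) = 1 → y ^ n = 1 := by
    intro x n hx hxy e
    rw [show x * y ^ n * (x * y ^ n) = x * (y ^ n * x) * y ^ n by group, ← (hxy.pow_right n).eq, ← mul_assoc, hx,
      one_mul, ← pow_add, ← two_mul] at e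
    exact cube_pow S.cube e
  have hzz := S.sys.large.mul_self_z
  have hordz : orderOf (π zC) = 2 := by
    refine orderOf_eq_prime (by rw [← map_pow, pow_two]; exact (hker _).2 (by
      show z * z ∈ _; rw [hzz]; exact one_mem _)) fun e => ?_
    obtain ⟨n, hn⟩ := heq zC 1 (e.trans (map_one π).symm)
    change z = 1 * y ^ n at hn
    rw [one_mul] at hn
    refine S.sys.large.z_ne_one (hn.trans (cube_pow S.cube ?_))
    rw [two_mul, pow_add, ← hn, hzz]
  let ψ : SL23 × SL23 →* H := π.comp φ'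
  have hψz : ψ (1, -1) = π zC := congrArg π (Subtype.ext F.phi_z)
  -- the centraliser
  have hlift : ∀ c : (Subgroup.centralizer ({y} : Set G)), π c * π zC = π zC * π c → Commute (c : G) z := by
    intro c hc
    obtain ⟨n, hn⟩ := heq (c * zC * c⁻¹) zC (by rw [map_mul, map_mul, map_inv, hc, mul_inv_cancel_right])
    change (c : G) * z * (c : G)⁻¹ = z * y ^ n at hn
    have h1 := hinv hzz S.act.1.symm (by rw [← hn]; exact conj_sq_one hzz _)
    rw [h1, mul_one] at hn
    exact mul_inv_eq_iff_eq_mul.1 hn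
  have hnormal : ∀ c, c * π zC = π zC * c → ∀ x, ∃ x', c * ψ x * c⁻¹ = ψ x' := by
    intro c hc x
    obtain ⟨c, rfl⟩ := hsurj c
    have hcz := hlift c hc
    obtain ⟨A, hA, hAc⟩ := S.acts_cent hcz (hcy c)
    obtain ⟨N, hN, hNx⟩ := F.acts x
    have h := List.all_eq_true.1 (List.all_eq_true.1 nine_normal A hA) N hN
    simp only [List.any_eq_true, beq_iff_eq] at h
    obtain ⟨M, hM, hMA⟩ := h
    have hl := core_bits.1
    simp only [List.all_eq_true, beq_iff_eq] at hl
    have hlA : A.length = 6 := by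
      have := List.all_eq_true.1 centMaps_comm A hA
      simp only [Bool.and_eq_true] at this
      exact (isoB_iff.1 this.2).1
    obtain ⟨x', hx'⟩ := F.surj _ M hM (S.sys.acts_conj hlA (hl N hN) (hl M hM) hAc hNx hMA)
      (((hcy c).mul_left (F.comm_y x)).mul_left (hcy c).inv_left)
    exact ⟨x', by
      show π c * π (φ' x) * (π c)⁻¹ = π (φ' x')
      rw [← map_inv, ← map_mul, ← map_mul]; exact congrArg π (Subtype.ext hx'.symm)⟩
  have hcent : ∀ c, c * π zC = π zC * c → (∀ x, c * ψ x = ψ x * c) → c = 1 ∨ c = π zC := by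
    intro c hc hall
    obtain ⟨c, rfl⟩ := hsurj c
    obtain ⟨n, e | e⟩ := S.cent_fac F (hlift c hc) (hcy c) fun x => by
      have := hall x
      exact heq (c * φ' x * c⁻¹) (φ' x) (by
        rw [map_mul, map_mul, map_inv]; exact mul_inv_eq_iff_eq_mul.2 this)
    · exact Or.inl ((hker c).2 (e ▸ Subgroup.npow_mem_zpowers y n))
    · refine Or.inr (inv_mul_eq_one.1 ?_).symm
      rw [← map_inv, ← map_mul, hker]
      show z⁻¹ * (c : G) ∈ _
      rw [e, inv_mul_cancel_left]
      exact Subgroup.npow_mem_zpowers y n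
  have hcard : Nat.card (Subgroup.centralizer ({π zC} : Set H)) = 1152 := by
    let D : Subgroup (Subgroup.centralizer ({y} : Set G)) := (Subgroup.centralizer ({z} : Set G)).subgroupOf (Subgroup.centralizer ({y} : Set G))
    have hD : Nat.card D = 3456 := by
      rw [← S.card_cent, show D = (Subgroup.centralizer ({z} : Set G)).subgroupOf (Subgroup.centralizer ({y} : Set G)) from rfl,
        ← Subgroup.inf_subgroupOf_right,
        Nat.card_congr (Subgroup.subgroupOfEquivOfLe inf_le_right).toEquiv]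
    let f : D →* H := π.comp D.subtype
    have hrange : f.range = Subgroup.centralizer ({π zC} : Set H) := by
      ext h
      rw [Subgroup.mem_centralizer_singleton_iff]
      constructor
      · rintro ⟨d, rfl⟩
        show π d.1 * π zC = π zC * π d.1
        rw [← map_mul, ← map_mul]
        exact congrArg π (Subtype.ext (mem_centralizer_singleton_iff'.1 (Subgroup.mem_subgroupOf.1 d.2)))
      · intro hh
        obtain ⟨c, rfl⟩ := hsurj h
        exact ⟨⟨c, Subgroup.mem_subgroupOf.2 (mem_centralizer_singleton_iff'.2 (hlift c hh))⟩, rfl⟩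
    have hk : Nat.card f.ker = 3 := by
      have hy3 : orderOf y = 3 := by
        haveI : Fact (Nat.Prime 3) := ⟨Nat.prime_three⟩
        exact orderOf_eq_prime hzero S.y_ne
      rw [← hy3, ← Nat.card_zpowers]
      refine Nat.card_congr (Equiv.ofBijective (fun d : f.ker => (⟨((d.1.1 : (Subgroup.centralizer ({y} : Set G))) : G), (hker _).1 d.2⟩ : Subgroup.zpowers y))
        ⟨fun a b e => ?_, fun t => ?_⟩)
      · exact Subtype.ext (Subtype.ext (Subtype.ext (congrArg (fun u : Subgroup.zpowers y => (u : G)) e)))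
      · obtain ⟨n, hn⟩ := mem_powers_iff_mem_zpowers.2 t.2
        have hty : Commute (t : G) y := by rw [← hn]; exact (Commute.refl y).pow_left n
        have htz : Commute (t : G) z := by rw [← hn]; exact S.act.1.pow_left n
        exact ⟨⟨⟨⟨t, hmem hty⟩, Subgroup.mem_subgroupOf.2 (mem_centralizer_singleton_iff'.2 htz)⟩,
          MonoidHom.mem_ker.2 ((hker _).2 t.2)⟩, rfl⟩
    have := Subgroup.card_mul_index f.ker
    rw [Subgroup.index_ker, hrange, hk, hD] at this
    omega
  -- the swapping element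
  obtain ⟨g, hgy, hgQ, hgne, hgQ', hinter⟩ := S.exists_swap hn
  have hgy' : Commute g⁻¹ y := hgy.symm.inv_left
  have hconj : ∀ {h : G}, Commute h y → h * z * h⁻¹ ∈ Q → h * z * h⁻¹ ≠ z →
      ∃ a, φ a * (h * z * h⁻¹) * (φ a)⁻¹ = kx' φ iu := by
    intro h hhy hQ' hne
    obtain ⟨x, hx⟩ := F.surj _ one core_bits.2.2.2 (S.sys.acts_of_mem hQ')
      ((hhy.mul_left S.act.1.symm).mul_left hhy.inv_left)
    rw [← hx] at hne ⊢
    refine UFourThree.involution_conj F.phi_z F.phi_z' F.phi_neg (fun x hx => F.ker x 0 (by rwa [pow_zero]))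
      (by rw [map_mul, hx]; exact conj_sq_one hzz h)
      (fun e => S.sys.large.z_ne_one (conj_eq_one_iff.1 (hx.symm.trans e))) hne
  obtain ⟨a, ha⟩ := hconj hgy.symm hgQ hgne
  obtain ⟨b, hb⟩ := hconj hgy' (by rwa [inv_inv]) (by
    rw [inv_inv]
    intro e
    exact hgne (calc g * z * g⁻¹ = g * (g⁻¹ * z * g) * g⁻¹ := by rw [e]
      _ = z := by group))
  rw [inv_inv] at hb
  set g' := φ a * g * (φ b)⁻¹ with hg'
  have hg'z : g' * z * g'⁻¹ = kx' φ iu := by
    rw [← ha, hg', show φ a * g * (φ b)⁻¹ * z * (φ a * g * (φ b)⁻¹)⁻¹ = φ a * g * ((φ b)⁻¹ * z * φ b) * (φ a * g)⁻¹ by group,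
      (F.comm_z b).inv_left.eq, inv_mul_cancel_right]
    group
  have hg'u : g' * kx' φ iu * g'⁻¹ = z := by
    rw [← hb, hg', show φ a * g * (φ b)⁻¹ * (φ b * (g⁻¹ * z * g) * (φ b)⁻¹) * (φ a * g * (φ b)⁻¹)⁻¹ =
      φ a * z * (φ a)⁻¹ by group, (F.comm_z a).eq, mul_inv_cancel_right]
  have hg'y : Commute g' y := ((F.comm_y a).mul_left hgy.symm).mul_left (F.comm_y b).inv_left
  let gC : (Subgroup.centralizer ({y} : Set G)) := ⟨g', hmem hg'y⟩
  refine ⟨{ z := π zC, φ := ψ, hz := hordz, phi_z := hψz,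
            phi_neg := ((congrArg π (Subtype.ext F.phi_neg : φ' (-1, -1) = 1)).trans (map_one π)),
            phi_ker := ?_, phi_comm := ?_, phi_normal := hnormal, phi_cent := hcent, card_cent := hcard,
            g := π gC, g_z := ?_, g_u := ?_, inter := ?_ }, φ' (sl 3, 1), rfl, F.rot, ?_, φ, F, fun x hx => rfl⟩
  · intro x hx
    obtain ⟨n, hn⟩ := heq (φ' x) 1 (hx.trans (map_one π).symm)
    refine F.ker x n ?_
    change φ x = 1 * y ^ n at hn
    rwa [one_mul] at hn
  · intro x
    show π (φ' x) * π zC = π zC * π (φ' x)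
    rw [← map_mul, ← map_mul]
    exact congrArg π (Subtype.ext (F.comm_z x).eq)
  · show π gC * π zC * (π gC)⁻¹ = π (φ' (sl (UFourThree.xa iu), sl (UFourThree.xb iu)))
    rw [← map_inv, ← map_mul, ← map_mul]
    exact congrArg π (Subtype.ext hg'z)
  · show π gC * π (φ' (sl (UFourThree.xa iu), sl (UFourThree.xb iu))) * (π gC)⁻¹ = π zC
    rw [← map_inv, ← map_mul, ← map_mul]
    exact congrArg π (Subtype.ext hg'u)
  · intro i hi k hk he
    change π gC * π (φ' (sl (UFourThree.xa i), sl (UFourThree.xb i))) * (π gC)⁻¹ =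
      π (φ' (sl (UFourThree.xa k), sl (UFourThree.xb k))) at he
    rw [← map_inv, ← map_mul, ← map_mul] at he
    obtain ⟨n, hn⟩ := heq _ _ he
    change g' * kx' φ i * g'⁻¹ = kx' φ k * y ^ n at hn
    have hQm : ∀ i ∈ qList, kx' φ i ∈ Q := fun i hi => F.core _ (UFourThree.q_pow4 hi).1 (UFourThree.q_pow4 hi).2
    have hi4 : (kx' φ i) ^ 4 = 1 := by
      rw [show (4 : ℕ) = 2 * 2 from rfl, pow_mul, pow_two (kx' φ i), S.sys.sq _ (hQm i hi), pow_two, sg_sq S.sys]
    have hk4 : (kx' φ k) ^ 4 = 1 := by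
      rw [show (4 : ℕ) = 2 * 2 from rfl, pow_mul, pow_two (kx' φ k), S.sys.sq _ (hQm k hk), pow_two, sg_sq S.sys]
    have hn1 : y ^ n = 1 := by
      have h4 : (kx' φ k * y ^ n) ^ 4 = 1 := by rw [← hn, conj_pow, hi4, mul_one, mul_inv_cancel]
      rw [(Commute.pow_right (show Commute (kx' φ k) y from F.comm_y _) n : Commute (kx' φ k) (y ^ n)).mul_pow, hk4, one_mul, ← pow_mul,
        show n * 4 = 3 * n + n by ring, pow_add, pow_mul, hzero, one_pow, one_mul] at h4
      exact h4
    rw [hn1, mul_one] at hn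
    have hmq : ∀ (a : SL23 × SL23) (u : G), u ∈ Q → (φ a)⁻¹ * u * φ a ∈ Q := fun a u hu => by
      have := S.sys.large.conj_mem (F.comm_z a).inv_left hu
      rwa [inv_inv] at this
    obtain ⟨s, t, hst⟩ := hinter _ (hmq a _ (hQm k hk)) (by
      rw [show g⁻¹ * ((φ a)⁻¹ * kx' φ k * φ a) * g = (φ b)⁻¹ * kx' φ i * φ b by rw [← hn, hg']; group]
      exact hmq b _ (hQm i hi))
    have hk' : kx' φ k = sg z s * sg (kx' φ iu) t := by
      have e : kx' φ k = φ a * ((φ a)⁻¹ * kx' φ k * φ a) * (φ a)⁻¹ := by group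
      rw [e, hst, ← ha]
      have hcs := S.sys.sg_comm (F.comm_z a) s
      calc φ a * (sg z s * sg (g * z * g⁻¹) t) * (φ a)⁻¹
          = (φ a * sg z s * (φ a)⁻¹) * (φ a * sg (g * z * g⁻¹) t * (φ a)⁻¹) := by group
        _ = _ := by rw [hcs.eq, mul_inv_cancel_right]; cases t <;> simp [sg]
    have hV : iu ∈ qList ∧ 48 ∈ qList ∧ 0 ∈ qList ∧ UFourThree.mul 48 iu ∈ qList ∧
        UFourThree.xa (UFourThree.mul 48 iu) = 1 ∧ UFourThree.xb (UFourThree.mul 48 iu) = UFourThree.ng 1 := by
      decide +kernel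
    have h48 : kx' φ 48 = z := by
      rw [kx', show UFourThree.xa 48 = 0 from rfl, show UFourThree.xb 48 = 12 from rfl, UFourThree.sl_zero,
        UFourThree.sl_twelve, F.phi_z]
    have h0 : kx' φ 0 = 1 := by
      rw [kx', show UFourThree.xa 0 = 0 from rfl, show UFourThree.xb 0 = 0 from rfl, UFourThree.sl_zero]
      exact map_one φ
    have hzu : kx' φ (UFourThree.mul 48 iu) = z * kx' φ iu := by
      rw [← F.phi_z, kx', kx', ← map_mul, hV.2.2.2.2.1, hV.2.2.2.2.2, show UFourThree.xa iu = 1 by decide +kernel,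
        show UFourThree.xb iu = 1 by decide +kernel, UFourThree.sl_ng (by norm_num)]
      simp
    cases s <;> cases t <;> simp only [sg, cond_false, cond_true, one_mul, mul_one] at hk'
    · exact Or.inl (F.kx_inj hk hV.2.2.1 (hk'.trans h0.symm))
    · exact Or.inr (Or.inr (Or.inl (F.kx_inj hk hV.1 hk')))
    · exact Or.inr (Or.inl (F.kx_inj hk hV.2.1 (hk'.trans h48.symm)))
    · exact Or.inr (Or.inr (Or.inr (F.kx_inj hk hV.2.2.2.1 (hk'.trans hzu.symm))))
  · show φ (sl 3, 1) * φ (sl 3, 1) * φ (sl 3, 1) = 1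
    rw [← map_mul, ← map_mul,
      show (sl 3, (1 : SL23)) * (sl 3, 1) * (sl 3, 1) = 1 by
        refine Prod.ext ?_ ?_
        · show sl 3 * sl 3 * sl 3 = 1
          decide +kernel
        · simp,
      map_one]

end Std

end CfsgLib.Recog.SuzThree
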