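import Cfsg.Agent.Lib.Recog.SuzThree.Maps

set_option autoImplicit false
set_option maxRecDepth 100000
set_option Elab.async false

/-!
The isometries commuting with the first rotation: half of them are induced, the others differ from those by a
transvection, which has 32 fixed vectors; no element of the Sylow 2-subgroup does (owner: helper22).
-/

namespace CfsgLib.Recog.SuzThree

open CfsgLib.LocalEvenB.SuzType

/-- the induced maps commuting with the first rotation -/
def centMaps : List (List Nat) := centList.map Prod.fst

/-- the singular vectors of the perpendicular space -/
def singF : List Nat := (List.range 16).filter fun n => !(qb n) && n != 0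

/-- the candidates commuting with the first rotation -/
def candC : List (List Nat) :=
  [16, 32, 48].flatMap fun e => singF.flatMap fun a => (singF.filter fun b => bb a b).flatMap fun b =>
    (singF.filter fun c => !(bb a c) && !(bb b c)).flatMap fun c =>
      (singF.filter fun d => !(bb a d) && !(bb b d) && bb c d).map fun d => [a, b, c, d, e, app rOne e]

theorem candC_ok : candC.all (fun A => centMaps.contains A || centMaps.contains (comp A tOdd)) = true := by decide +kernel

theorem basis_facts : (bb 1 2 && bb 4 8 && !(bb 1 4) && !(bb 2 4) && !(bb 1 8) && !(bb 2 8) && !(qb 1) && !(qb 2) && !(qb 4) &&
    !(qb 8) && qb 16 && (app rOne 16 == 32) && (comp tOdd tOdd == one)) = true := by decide +kernel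

theorem centMaps_comm : centMaps.all (fun A => comp A rOne == comp rOne A && isoB A) = true := by decide +kernel

theorem tOdd_fix : (decide (((List.range 64).filter (fixB tOdd)).length = 32) &&
    sylow.all (fun r => decide (((List.range 64).filter (fixB r.1)).length ≠ 32))) = true := by decide +kernel

/-- the maps induced by the product of the two rotation groups -/
def nineMaps : List (List Nat) :=
  [one, rTwo, comp rTwo rTwo].flatMap fun A => [one, rThree, comp rThree rThree].map (comp A)

theorem nine_normal : centMaps.all (fun A => nineMaps.all fun N => nineMaps.any fun M => comp A N == comp M A) = true := by
  decide +kernel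

theorem fix_perp : centMaps.all (fun A => !([1, 2, 4, 8].all fun n => app A n == n) || A == one || A == rOne ||
    A == rOneInv) = true := by decide +kernel

theorem nine_mem : nineMaps.all (fun N => centMaps.contains N) = true := by decide +kernel

end CfsgLib.Recog.SuzThree
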