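import Cfsg.Agent.Lib.Recog.SuzThree.Local

set_option autoImplicit false
set_option linter.unusedSectionVars false

/-!
Elements of order three moving inside one line are conjugate to the first rotation (owner: helper22).
-/

namespace CfsgLib.Recog.SuzThree

open CfsgLib.LocalEvenB.SuzType CfsgLib.ThreeTrans

theorem six_list {A : List Nat} (hA : A.length = 6) :
    A = [app A 1, app A 2, app A 4, app A 8, app A 16, app A 32] :=
  eq_of_app hA rfl fun n hn => by
    simp only [one, List.mem_cons, List.not_mem_nil, or_false] at hn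
    rcases hn with rfl | rfl | rfl | rfl | rfl | rfl <;>
      simp [app, term, Nat.testBit, Nat.shiftRight_eq_div_pow]

theorem four_set {a b u v : Nat} (hu : u ∈ [0, a, b, a ^^^ b]) (hv : v ∈ [0, a, b, a ^^^ b]) (h1 : u ≠ 0) (h2 : v ≠ 0)
    (h3 : u ≠ v) {w : Nat} (hw : w ∈ [0, a, b, a ^^^ b]) : w ∈ [0, u, v, u ^^^ v] := by
  have e1 : a ^^^ (a ^^^ b) = b := by rw [← Nat.xor_assoc, Nat.xor_self, Nat.zero_xor]
  have e2 : b ^^^ (a ^^^ b) = a := by rw [Nat.xor_comm a b, ← Nat.xor_assoc, Nat.xor_self, Nat.zero_xor]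
  have e3 : (a ^^^ b) ^^^ a = b := by rw [Nat.xor_comm, e1]
  have e4 : (a ^^^ b) ^^^ b = a := by rw [Nat.xor_comm, e2]
  simp only [List.mem_cons, List.not_mem_nil, or_false] at hu hv hw ⊢
  rcases hu with rfl | rfl | rfl | rfl <;> rcases hv with rfl | rfl | rfl | rfl <;>
    rcases hw with rfl | rfl | rfl | rfl <;> simp_all [Nat.xor_comm]

variable {G : Type*} [Group G] [Finite G] {z : G} {Q : Subgroup G} {p : G → Nat} (h : Sys z Q p)
include h

theorem acts_data {x : G} {R : List Nat} (hl : R.length = 6) (hx : Acts z Q p x R) (hx3 : x * x * x = 1) :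
    Iso R ∧ comp R (comp R R) = one := by
  obtain ⟨A, hA, hA'⟩ := h.exists_acts hx.1
  refine ⟨h.acts_unique hl hA.1 hx hA' ▸ hA, h.acts_unique (by rw [length_comp, length_comp, hl]) rfl ?_ h.acts_one⟩
  have := acts_cube h hl hx
  rwa [← mul_assoc, hx3] at this

theorem eq_one_of_acts {x : G} (hx3 : x * x * x = 1) (hx : Acts z Q p x one) : x = 1 := by
  have hq := h.mem_of_acts_one hx
  have h4 : x * x * (x * x) = 1 := by rw [h.sq x hq, sg_sq h]
  calc x = x * (x * x * x) := by rw [hx3, mul_one]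
    _ = x * x * (x * x) := by group
    _ = 1 := h4

/-- the standard plane -/
theorem exists_standard {x : G} {R : List Nat} (hl : R.length = 6) (hx : Acts z Q p x R) (hx3 : x * x * x = 1)
    (hx1 : x ≠ 1) {a b : Nat} (him : ∀ n < 64, n ^^^ app R n ∈ [0, a, b, a ^^^ b]) :
    ∃ c, Commute c z ∧ (Acts z Q p (c * x * c⁻¹) rOne ∨ Acts z Q p (c * x * c⁻¹) rOneInv) := by
  obtain ⟨hiso, hR3⟩ := acts_data h hl hx hx3
  have hlt : ∀ n < 64, app R n < 64 := fun n hn => (hiso.2 n hn).1
  have hcube : ∀ n < 64, app R (app R (app R n)) = n := fun n hn => by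
    have := app_comp (A := R) (B := comp R R) (by rw [length_comp, hl]) n
    rw [hR3, app_one n hn, app_comp hl] at this
    exact this.symm
  obtain ⟨m, hm, hu⟩ : ∃ m < 64, m ^^^ app R m ≠ 0 := by
    by_contra hne
    push Not at hne
    refine hx1 (eq_one_of_acts h hx3 ?_)
    rwa [show R = one from eq_of_app hl rfl fun n hn => by
      have hn64 : n < 64 := by revert n; decide
      rw [app_one n hn64]; exact (Nat.xor_eq_zero_iff.1 (hne n hn64)).symm] at hx
  obtain ⟨u, hudef⟩ : ∃ u, u = m ^^^ app R m := ⟨_, rfl⟩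
  rw [← hudef] at hu
  have hu64 : u < 64 := hudef ▸ Nat.xor_lt_two_pow (n := 6) hm (hlt m hm)
  set v := app R u with hv
  have hv64 : v < 64 := hlt u hu64
  have hsum : u ^^^ v ^^^ app R v = 0 := by
    rw [hv, hudef, app_xor, app_xor, hcube m hm]
    ac_nf
    simp
  have huv : u ≠ v := fun e => by
    have : app R v = v := by conv_lhs => rw [← e]
    rw [this, ← e, Nat.xor_self, Nat.zero_xor] at hsum
    exact hu hsum
  have hv0 : v ≠ 0 := fun e => hu (by
    have := hcube u hu64
    rw [← hv, e, app_zero, app_zero] at this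
    exact this.symm)
  have hmem : ∀ n < 64, n ^^^ app R n ∈ [0, u, v, u ^^^ v] := fun n hn =>
    four_set (hudef ▸ him m hm)
      (by
        have := him (app R m) (hlt m hm)
        rwa [← app_xor, ← hudef] at this)
      hu hv0 huv (him n hn)
  have hq : qb u = qb v ∧ qb u = qb (u ^^^ v) := by
    refine ⟨(hiso.2 u hu64).2.symm, ?_⟩
    rw [show u ^^^ v = app R v from Nat.xor_eq_zero_iff.1 hsum, (hiso.2 v hv64).2, (hiso.2 u hu64).2]
  have hchk := List.all_eq_true.1 (List.all_eq_true.1 line_check u (List.mem_range.2 hu64)) v (List.mem_range.2 hv64)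
  simp only [Bool.or_eq_true, beq_iff_eq, hu, hv0, huv, hq.1, hq.2, Bool.not_eq_true', Bool.and_eq_false_iff,
    beq_eq_false_iff_ne, ne_eq, not_true, false_or, or_self, Bool.and_eq_true, decide_eq_true_eq,
    List.contains_iff_mem] at hchk
  set S := bif qb u then planeOne else lineZero with hS
  obtain ⟨⟨hWu, hWv⟩, hidx⟩ := (by
      have := hq.1.symm.trans hq.2
      simpa [hS, hq.1, ← this] using hchk :
    (app (lineAt u v).1 u ∈ S ∧ app (lineAt u v).1 v ∈ S) ∧
      Nat.land (Nat.shiftRight lineIdx (8 * (64 * u + v))) 255 < 165)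
  have hent : lineAt u v ∈ lineMaps := by
    rw [lineAt, List.getD_eq_getElem _ _ (by rw [lineMaps_length]; exact hidx)]
    exact List.getElem_mem _
  have hw := List.all_eq_true.1 lineMaps_words _ hent
  rw [beq_iff_eq] at hw
  set W := (lineAt u v).1 with hWdef
  obtain ⟨hWl, c, hc⟩ := h.acts_word (lineAt u v).2
  rw [← hw] at hWl hc
  have hclosed : ∀ S' ∈ [planeOne, lineZero], 0 ∈ S' ∧ ∀ r ∈ S', ∀ s ∈ S', r ^^^ s ∈ S' := by decide +kernel
  obtain ⟨hS0, hSx⟩ := hclosed S (by rw [hS]; cases qb u <;> simp)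
  obtain ⟨B, hB, hBc⟩ := h.exists_acts ((hc.1.mul_left hx.1).mul_left hc.1.inv_left)
  have hcx3 : c * x * c⁻¹ * (c * x * c⁻¹) * (c * x * c⁻¹) = 1 := by
    calc c * x * c⁻¹ * (c * x * c⁻¹) * (c * x * c⁻¹) = c * (x * x * x) * c⁻¹ := by group
      _ = 1 := by rw [hx3]; group
  obtain ⟨-, hB3⟩ := acts_data h hB.1 hBc hcx3
  have hBW : ∀ k < 64, app B (app W k) = app W (app R k) := by
    intro k hk
    obtain ⟨q, hqm, rfl⟩ := h.surj k hk
    rw [← hc.2 q hqm, ← hBc.2 _ (h.large.conj_mem hc.1 hqm), ← hx.2 q hqm, ← hc.2 _ (h.large.conj_mem hx.1 hqm)]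
    congr 1
    group
  have hin : ∀ n < 64, n ^^^ app B n ∈ S := by
    intro n hn
    obtain ⟨k, hk, rfl⟩ := h.app_surj hc n hn
    rw [hBW k hk, ← app_xor]
    have := hmem k hk
    simp only [List.mem_cons, List.not_mem_nil, or_false] at this
    rcases this with e | e | e | e <;> rw [e]
    · rw [app_zero]; exact hS0
    · exact hWu
    · exact hWv
    · rw [app_xor]; exact hSx _ hWu _ hWv
  have hcand : B ∈ candB S := by
    have hopt : ∀ e < 64, app B e ∈ optB S e := fun e he => by
      simp only [optB, List.mem_filter, List.mem_map, beq_iff_eq]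
      exact ⟨⟨e ^^^ app B e, hin e he, by rw [← Nat.xor_assoc, Nat.xor_self, Nat.zero_xor]⟩, (hB.2 e he).2⟩
    rw [six_list hB.1]
    simp only [candB, List.mem_flatMap, List.mem_map]
    exact ⟨_, hopt 1 (by norm_num), _, hopt 2 (by norm_num), _, hopt 4 (by norm_num), _, hopt 8 (by norm_num), _,
      hopt 16 (by norm_num), _, hopt 32 (by norm_num), rfl⟩
  have hmove : moveB S B = true := by
    simp only [moveB, Bool.and_eq_true, beq_iff_eq, List.all_eq_true, List.mem_range, List.contains_iff_mem]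
    exact ⟨hB3, isoB_iff.2 hB, hin⟩
  have hne : B ≠ one := fun e => hx1 (by
    have := eq_one_of_acts h hcx3 (e ▸ hBc)
    exact conj_eq_one_iff.1 this)
  refine ⟨c, hc.1, ?_⟩
  cases hq0 : qb u with
  | false =>
    rw [hS, hq0] at hcand hmove
    have := List.all_eq_true.1 classify_line B hcand
    simp only [cond_false] at hmove
    simp [hmove, hne] at this
  | true =>
    rw [hS, hq0] at hcand hmove
    have := List.all_eq_true.1 classify_plane B hcand
    simp only [cond_true] at hmove
    simp only [hmove, Bool.not_true, Bool.or_eq_true, beq_iff_eq, hne, Bool.false_eq_true, false_or] at this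
    rcases this with e | e
    · exact Or.inl (e ▸ hBc)
    · exact Or.inr (e ▸ hBc)

/-- coordinates after conjugating by an element of the centralizer -/
theorem adapt {c : G} (hc : Commute c z) : Sys z Q (fun a => p (c * a * c⁻¹)) := by
  have h1 := h.conj c⁻¹
  have e1 : c⁻¹ * z * c⁻¹⁻¹ = z := by rw [hc.inv_left.eq, mul_inv_cancel_right]
  have e2 : Q.map (MulAut.conj c⁻¹).toMonoidHom = Q := by
    ext a
    rw [mem_conjMap, inv_inv]
    refine ⟨fun ha => ?_, fun ha => h.large.conj_mem hc ha⟩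
    have := h.large.conj_mem hc.inv_left ha
    rwa [show c⁻¹ * (c * a * c⁻¹) * c⁻¹⁻¹ = a by group] at this
  rw [e1, e2, inv_inv] at h1
  exact h1

theorem adapt_acts {c x : G} {R : List Nat} (hc : Commute c z) (hx : Commute x z) (hA : Acts z Q p (c * x * c⁻¹) R) :
    Acts z Q (fun a => p (c * a * c⁻¹)) x R :=
  ⟨hx, fun a ha => by
    rw [← hA.2 _ (h.large.conj_mem hc ha)]
    show p _ = p _
    congr 1
    group⟩

/-- an element moving inside one line is a rotation of the standard plane in suitable coordinates -/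
theorem exists_coords {x : G} {R : List Nat} (hl : R.length = 6) (hx : Acts z Q p x R) (hx3 : x * x * x = 1)
    (hx1 : x ≠ 1) {a b : Nat} (him : ∀ n < 64, n ^^^ app R n ∈ [0, a, b, a ^^^ b]) :
    ∃ p', Sys z Q p' ∧ (Acts z Q p' x rOne ∨ Acts z Q p' (x * x) rOne) := by
  obtain ⟨c, hc, h1⟩ := exists_standard h hl hx hx3 hx1 him
  refine ⟨_, adapt h hc, ?_⟩
  rcases h1 with h1 | h1
  · exact Or.inl (adapt_acts h hc hx.1 h1)
  · refine Or.inr ?_
    have h2 := adapt_acts h hc hx.1 h1
    have := (adapt h hc).acts_mul (by rfl) h2 h2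
    rwa [show comp rOneInv rOneInv = rOne by decide +kernel] at this

end CfsgLib.Recog.SuzThree
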