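import Cfsg.Agent.Lib.LocalEvenB.SuzType.Main
import Cfsg.Agent.Lib.Recog.SuzThree.CentMaps

set_option autoImplicit false
set_option linter.unusedSectionVars false

/-!
Elements of order three of the centraliser acting on the coordinates (owner: helper22).
-/

namespace CfsgLib.Recog.SuzThree

open CfsgLib.LocalEvenB.SuzType CfsgLib.ThreeTrans

variable {G : Type*} [Group G] [Finite G] {z : G} {Q : Subgroup G} {p : G → Nat} (h : Sys z Q p)
include h

theorem acts_cube {R : List Nat} (hl : R.length = 6) {x : G} (hx : Acts z Q p x R) :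
    Acts z Q p (x * (x * x)) (comp R (comp R R)) :=
  h.acts_mul (by rw [length_comp, hl]) hx (h.acts_mul hl hx hx)

theorem sg_sq (i : Bool) : sg z i * sg z i = 1 := by rw [h.sg_mul, Bool.xor_self]; rfl

theorem sg_cube {i : Bool} (e : sg z i * sg z i * sg z i = 1) : sg z i = 1 := by
  rwa [sg_sq h, one_mul] at e

/-- an element of order three centralises what it fixes -/
theorem commute_of_fix {R : List Nat} {x a : G} (hx3 : x * x * x = 1) (hx : Acts z Q p x R) (ha : a ∈ Q)
    (hfix : app R (p a) = p a) : Commute x a := by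
  obtain ⟨i, e⟩ := h.eq_of_p ha (h.large.conj_mem hx.1 ha) (by rw [hx.2 a ha, hfix])
  have hs := h.sg_comm hx.1 i
  have e2 : x * x * a * (x * x)⁻¹ = a * (sg z i * sg z i) := by
    calc x * x * a * (x * x)⁻¹ = x * (x * a * x⁻¹) * x⁻¹ := by group
      _ = x * (a * sg z i) * x⁻¹ := by rw [e]
      _ = x * a * x⁻¹ * (x * sg z i * x⁻¹) := by group
      _ = _ := by rw [hs.eq, mul_inv_cancel_right, e, mul_assoc]
  have e3 : a = a * (sg z i * sg z i * sg z i) := by
    calc a = x * x * x * a * (x * x * x)⁻¹ := by rw [hx3]; group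
      _ = x * (x * x * a * (x * x)⁻¹) * x⁻¹ := by group
      _ = x * a * x⁻¹ * (x * (sg z i * sg z i) * x⁻¹) := by rw [e2]; group
      _ = _ := by rw [(hs.mul_right hs).eq, mul_inv_cancel_right, e]; group
  rw [sg_cube h (by simpa using e3.symm), mul_one] at e
  exact mul_inv_eq_iff_eq_mul.1 e

/-- elements of order three with the same action are conjugate under the core -/
theorem coset_conj {R : List Nat} (hl : R.length = 6) (hR3 : comp R (comp R R) = one) {x x' : G} (hx3 : x * x * x = 1)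
    (hx'3 : x' * x' * x' = 1) (hx : Acts z Q p x R) (hx' : Acts z Q p x' R) :
    ∃ q ∈ Q, q * x * q⁻¹ = x' ∧ ∃ m < 64, p q = m ^^^ app R m := by
  have hxi : x⁻¹ = x * x := inv_eq_of_mul_eq_one_right (by rw [← mul_assoc, hx3])
  have hR2 : Acts z Q p x⁻¹ (comp R R) := hxi ▸ h.acts_mul hl hx hx
  have hr : x⁻¹ * x' ∈ Q := h.inv_mul_mem hx hx'
  set r := x⁻¹ * x' with hrdef
  set u := p r with hu
  have hlt : u < 64 := h.lt r hr
  have hRu : app R u < 64 := by rw [hu, ← hx.2 r hr]; exact h.lt _ (h.large.conj_mem hx.1 hr)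
  have hsum : app R u ^^^ app R (app R u) ^^^ u = 0 := by
    have e : x * r * x⁻¹ * (x * x * r * (x * x)⁻¹) * r = 1 := by
      calc x * r * x⁻¹ * (x * x * r * (x * x)⁻¹) * r
          = x * r * (x * r) * (x⁻¹ * x⁻¹) * r := by group
        _ = x * r * (x * r) * x * r := by
          rw [show x⁻¹ * x⁻¹ = x by rw [hxi, show x * x * (x * x) = x * x * x * x by group, hx3, one_mul]]
        _ = x' * x' * x' := by rw [hrdef]; group
        _ = 1 := hx'3
    have h1 := h.large.conj_mem hx.1 hr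
    have hxx : Acts z Q p (x * x) (comp R R) := h.acts_mul hl hx hx
    have h2 := h.large.conj_mem hxx.1 hr
    have := congrArg p e
    rw [h.map_mul _ (Q.mul_mem h1 h2) _ hr, h.map_mul _ h1 _ h2, hx.2 r hr, hxx.2 r hr, app_comp hl, h.p_one] at this
    exact this
  obtain ⟨q, hq, hpq⟩ := h.surj (u ^^^ app R u) (Nat.xor_lt_two_pow (n := 6) hlt hRu)
  have hm : x⁻¹ * q * x⁻¹⁻¹ ∈ Q := h.large.conj_mem hx.1.inv_left hq
  have hp : p (x⁻¹ * q * x⁻¹⁻¹ * q⁻¹) = u := by
    rw [h.map_mul _ hm _ (Q.inv_mem hq), h.p_inv hq, hR2.2 q hq, app_comp hl, hpq]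
    have h3 : app R (app R (app R u)) = u := by
      rw [← app_comp hl, ← app_comp hl, show comp (comp R R) R = one from ?_, app_one u hlt]
      refine (eq_of_app (by rw [length_comp, hl]) rfl fun n hn => ?_)
      rw [app_comp hl, app_comp hl, ← hR3, app_comp (by rw [length_comp, hl]), app_comp hl]
    rw [app_xor, app_xor, h3]
    have e' : app R (app R u) = app R u ^^^ u := by
      rw [← Nat.xor_eq_zero_iff, ← hsum]; ac_rfl
    rw [e', Nat.xor_comm u (app R u)]
    simp [← Nat.xor_assoc]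
  obtain ⟨i, e⟩ := h.eq_of_p (Q.mul_mem hm (Q.inv_mem hq)) hr hp
  have hx'eq : x' = q * x * q⁻¹ * sg z i := by
    calc x' = x * r := by rw [hrdef]; group
      _ = _ := by rw [e]; group
  have hqz : Commute (q * x * q⁻¹) (sg z i) :=
    h.sg_comm (((h.large.commute_z hq).mul_left hx.1).mul_left (h.large.commute_z hq).inv_left) i
  have hi : sg z i = 1 := by
    refine sg_cube h ?_
    have e3 : (q * x * q⁻¹ * sg z i) ^ 3 = 1 := by
      rw [← hx'eq, pow_succ, pow_two]; exact hx'3
    rw [hqz.mul_pow, conj_pow, pow_succ x, pow_two x, hx3, mul_one, mul_inv_cancel, one_mul, pow_succ, pow_two] at e3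
    exact e3
  refine ⟨q, hq, by rw [hx'eq, hi, mul_one], u, hlt, hpq⟩

/-- carrying one element of order three to another -/
theorem conj_to {R R' A : List Nat} (hl : R.length = 6) (hl' : R'.length = 6) (hR3 : comp R' (comp R' R') = one)
    (hA : A.length = 6) (hAR : comp A R = comp R' A) {c x x' : G} (hx3 : x * x * x = 1) (hx'3 : x' * x' * x' = 1)
    (hc : Acts z Q p c A) (hx : Acts z Q p x R) (hx' : Acts z Q p x' R') :
    ∃ q ∈ Q, (q * c) * x * (q * c)⁻¹ = x' ∧ Acts z Q p (q * c) A ∧ ∃ m < 64, p q = m ^^^ app R' m := by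
  have h1 : c * x * c⁻¹ * (c * x * c⁻¹) * (c * x * c⁻¹) = 1 := by
    calc c * x * c⁻¹ * (c * x * c⁻¹) * (c * x * c⁻¹) = c * (x * x * x) * c⁻¹ := by group
      _ = 1 := by rw [hx3]; group
  obtain ⟨q, hq, he, hm⟩ := coset_conj h hl' hR3 h1 hx'3 (h.acts_conj hA hl hl' hc hx hAR) hx'
  refine ⟨q, hq, by rw [← he]; group, ?_, hm⟩
  have := h.acts_mul hA (h.acts_of_mem hq) hc
  rwa [show comp one A = A from eq_of_app (by rw [length_comp, hA]) hA fun n hn => by
    rw [app_comp hA]
    obtain ⟨a, ha, rfl⟩ := h.surj n (by revert n; decide)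
    rw [← hc.2 a ha]
    exact app_one _ (h.lt _ (h.large.conj_mem hc.1 ha))] at this

/-- lifting a map of order three to an element of order three -/
theorem exists_three {R : List Nat} (hl : R.length = 6) (hR3 : comp R (comp R R) = one) {c : G} (hc : Acts z Q p c R) :
    ∃ x, x * x * x = 1 ∧ Acts z Q p x R ∧ ∀ d : G, Commute d c → Commute d x := by
  have hc3 : c * (c * c) ∈ Q := h.mem_of_acts_one (hR3 ▸ acts_cube h hl hc)
  have h4 : (c * (c * c)) ^ 4 = 1 := by
    have hs := h.sq _ hc3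
    rw [show (4 : ℕ) = 2 * 2 from rfl, pow_mul, pow_two (c * (c * c)), hs, pow_two, sg_sq h]
  refine ⟨c ^ 4, ?_, ?_, fun d hd => hd.pow_right 4⟩
  · calc c ^ 4 * c ^ 4 * c ^ 4 = (c ^ 3) ^ 4 := by rw [← pow_add, ← pow_add, ← pow_mul]
      _ = (c * (c * c)) ^ 4 := by rw [show c ^ 3 = c * (c * c) by rw [pow_succ, pow_two, mul_assoc]]
      _ = 1 := h4
  · have := h.acts_mul hl (h.acts_of_mem hc3) hc
    rw [show c ^ 4 = c * (c * c) * c by rw [pow_succ, pow_succ, pow_two, mul_assoc c c c]]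
    rwa [show comp one R = R from eq_of_app (by rw [length_comp, hl]) hl fun n hn => by
      rw [app_comp hl]
      obtain ⟨a, ha, rfl⟩ := h.surj n (by revert n; decide)
      rw [← hc.2 a ha]
      exact app_one _ (h.lt _ (h.large.conj_mem hc.1 ha))] at this

end CfsgLib.Recog.SuzThree
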