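import Cfsg.Agent.Lib.Recog.SuzThree.BaseData
import Cfsg.Agent.Lib.Recog.UFourThree.Global

set_option autoImplicit false
set_option linter.unusedSectionVars false
set_option maxRecDepth 100000
set_option Elab.async false

/-!
The centraliser of the element of order three is a quasisimple group with central quotient PSU(4,3)
(owner: helper22).
-/

namespace CfsgLib.Recog.SuzThree

open CfsgLib.LocalEvenB.SuzType CfsgLib.ThreeTrans
open CfsgLib.Recog.UFourThree (sl bm imgW)
open Known.U43Mult (Mdl)

/-- a word for the first factor's element of order three -/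
def wordW : List ℕ := [3, 4, 1, 2, 0, 2]

/-- two words commuting with it, with it as commutator -/
def wordA : List ℕ := [0, 5, 3, 0, 4, 5, 4, 3, 5]

/-- the second word -/
def wordB : List ℕ := [5, 0, 4, 5, 3, 5, 4, 5, 0, 1]

theorem word_facts : ((List.range 126).all fun x =>
    Nat.beq (imgW (wordA ++ wordB) x) (imgW (wordW ++ (wordB ++ wordA)) x) &&
    Nat.beq (imgW (wordA ++ wordW) x) (imgW (wordW ++ wordA) x) &&
    Nat.beq (imgW (wordB ++ wordW) x) (imgW (wordW ++ wordB) x)) = true := by decide +kernel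

theorem wordW_eval : ((UFourThree.evw wordW == 288) && wordW.all (fun c => Nat.blt c 5) &&
    (UFourThree.xa 288 == 3) && (UFourThree.xb 288 == 0) && (UFourThree.xw 288 == 0)) = true := by decide +kernel

theorem bm_prod_eq {l l' : List ℕ} (hl : ∀ c ∈ l, c < 6) (hl' : ∀ c ∈ l', c < 6)
    (h : ∀ x < 126, imgW l x = imgW l' x) : (l.map bm).prod = (l'.map bm).prod :=
  Known.U43Mult.phi_injective (Equiv.ext fun x => Fin.ext (by
    rw [← UFourThree.phi_prod hl x, ← UFourThree.phi_prod hl' x]; exact h x x.2))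

theorem bm_words :
    (wordA.map bm).prod * (wordB.map bm).prod = (wordW.map bm).prod * ((wordB.map bm).prod * (wordA.map bm).prod) ∧
    (wordA.map bm).prod * (wordW.map bm).prod = (wordW.map bm).prod * (wordA.map bm).prod ∧
    (wordB.map bm).prod * (wordW.map bm).prod = (wordW.map bm).prod * (wordB.map bm).prod := by
  have h := word_facts
  simp only [List.all_eq_true, List.mem_range, Bool.and_eq_true, Nat.beq_eq] at h
  simp only [← List.prod_append, ← List.map_append]
  refine ⟨bm_prod_eq ?_ ?_ fun x hx => (h x hx).1.1, bm_prod_eq ?_ ?_ fun x hx => (h x hx).1.2,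
    bm_prod_eq ?_ ?_ fun x hx => (h x hx).2⟩ <;> decide +kernel

theorem map_prod_eq {H : Type*} [Group H] (ι : Mdl →* H) (a : ℕ → H) (hia : ∀ c < 6, a c = ι (bm c)) :
    ∀ {l : List ℕ}, (∀ c ∈ l, c < 6) → (l.map a).prod = ι ((l.map bm).prod)
  | [], _ => by simp
  | c :: l, h => by
    rw [List.map_cons, List.prod_cons, List.map_cons, List.prod_cons, map_mul, hia c (h c List.mem_cons_self),
      map_prod_eq ι a hia fun d hd => h d (List.mem_cons_of_mem _ hd)]

variable {G : Type*} [Group G] [Finite G] {z : G} {Q : Subgroup G} {p : G → Nat} {y : G}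

theorem rTwo_move : (∀ n < 64, n ^^^ app rTwo n < 16) ∧ comp dMap rTwo = comp rTwo dMap ∧
    comp rTwo one = rTwo ∧ ∀ n < 3, rTwo ≠ pwR rOne n := by
  refine ⟨?_, ?_, ?_, ?_⟩ <;> decide +kernel

namespace Std

variable (S : Std z Q p y)
include S

/-- an element inverting the rotation and centralising the given element of order three -/
theorem exists_outer {w : G} (hw : Acts z Q p w rTwo) (hw3 : w * w * w = 1) :
    ∃ d, d * y * d⁻¹ = y * y ∧ d * w * d⁻¹ = w := by
  obtain ⟨d, hd, hdy⟩ := S.exists_inverter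
  obtain ⟨q, hq, he, -, m, hm, hpq⟩ := conj_to S.sys (R := rTwo) (R' := rTwo) rfl rfl (by decide +kernel) rfl
    rTwo_move.2.1 hw3 hw3 hd hw hw
  refine ⟨q * d, ?_, he⟩
  have hqy : Commute y q := (S.mem_core_iff hq).2 (hpq ▸ rTwo_move.1 m hm)
  rw [show q * d * y * (q * d)⁻¹ = q * (d * y * d⁻¹) * q⁻¹ by group, hdy, (hqy.symm.mul_right hqy.symm).eq,
    mul_inv_cancel_right]

/-- the element of order three is conjugate to the rotation or its inverse -/
theorem exists_to_rot {w : G} (hw : Acts z Q p w rTwo) (hw3 : w * w * w = 1) :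
    ∃ c, c * w * c⁻¹ = y ∨ c * w * c⁻¹ = y * y := by
  obtain ⟨hl, c, hc⟩ := S.sys.acts_word wWord
  rw [← map_words.2] at hl hc
  have h := wMap_facts
  simp only [Bool.or_eq_true, beq_iff_eq] at h
  rcases h with h | h
  · obtain ⟨q, -, he, -⟩ := conj_to S.sys (R := rTwo) (R' := rOne) rfl rfl (by decide +kernel) rfl h hw3 S.cube hc hw
      S.act
    exact ⟨_, Or.inl he⟩
  · obtain ⟨q, -, he, -⟩ := conj_to S.sys (R := rTwo) (R' := rOneInv) rfl rfl (by decide +kernel) rfl h hw3
      (sq_cube S.cube) hc hw S.act_sq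
    exact ⟨_, Or.inr he⟩

/-- the structure of the centraliser -/
theorem main (hn : ∃ g : G, g * z * g⁻¹ ∈ Q ∧ g * z * g⁻¹ ≠ z) (Yg : Subgroup G) (hY : Yg = Subgroup.zpowers y)
    [(Yg.subgroupOf (Subgroup.centralizer (Yg : Set G))).Normal] (K : Type) [Field K] [Fintype K]
    (hK : Fintype.card K = 9) :
    Cfsg.IsQuasisimple ↥(Subgroup.centralizer (Yg : Set G)) ∧
      Nonempty (↥(Subgroup.centralizer (Yg : Set G)) ⧸ Yg.subgroupOf (Subgroup.centralizer (Yg : Set G)) ≃*
        Cfsg.PSU 4 K 3) ∧
      (Subgroup.centralizer (Yg : Set G)).relIndex (Subgroup.normalizer (Yg : Set G)) = 2 := by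
  classical
  have hCY : Subgroup.centralizer (Yg : Set G) = Subgroup.centralizer ({y} : Set G) := by
    rw [hY]
    ext c
    rw [mem_centralizer_singleton_iff', Subgroup.mem_centralizer_iff]
    refine ⟨fun h => (h y (Subgroup.mem_zpowers y)).symm, fun h t ht => ?_⟩
    obtain ⟨k, rfl⟩ := Subgroup.mem_zpowers_iff.1 ht
    exact ((show Commute c y from h).zpow_right k).eq.symm
  set C := Subgroup.centralizer (Yg : Set G) with hCdef
  set N := Yg.subgroupOf C with hN
  have memN : ∀ x : C, x ∈ N ↔ (x : G) ∈ Subgroup.zpowers y := fun x => by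
    rw [hN, Subgroup.mem_subgroupOf, hY]
  have hcy : ∀ c : C, Commute (c : G) y := fun c =>
    mem_centralizer_singleton_iff'.1 (hCY ▸ c.2 : (c : G) ∈ Subgroup.centralizer ({y} : Set G))
  have hmemC : ∀ {c : G}, Commute c y → c ∈ C := fun h => hCY ▸ mem_centralizer_singleton_iff'.2 h
  -- the quotient
  let π : Subgroup.centralizer ({y} : Set G) →* C ⧸ N :=
    (QuotientGroup.mk' N).comp (Subgroup.inclusion hCY.ge)
  have hsurj : Function.Surjective π := by
    intro t
    induction t using QuotientGroup.induction_on with | _ c => exact ⟨⟨c, hCY ▸ c.2⟩, rfl⟩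
  obtain ⟨B, w', hBw, hw, hw3, -⟩ := S.exists_base hn π hsurj fun x =>
    (QuotientGroup.eq_one_iff (N := N) (Subgroup.inclusion hCY.ge x)).trans (memN _)
  obtain ⟨h, h1, h2, h3, h4⟩ := B.ctx.exists_adjusted
  let D : UFourThree.Adj (C ⧸ N) :=
    { psi := B.ctx.psi, g := h, psi_mul := B.ctx.psi_mul, psi_inj := B.ctx.psi_inj, psi_surj := B.ctx.psi_surj,
      psi_comm := B.ctx.psi_comm, g_z := h2, g_u := h3, g_sq := h1, g_sig := h4 }
  obtain ⟨e, -⟩ := D.exists_equiv
  obtain ⟨ι, -, hia, -⟩ := D.exists_embedding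
  haveI hsimple : IsSimpleGroup (C ⧸ N) :=
    haveI := Known.U43Mult.mdl_spec.1
    e.symm.isSimpleGroup
  obtain ⟨eU⟩ := Known.U43Mult.nonempty_equiv hK
  set w : C := Subgroup.inclusion hCY.ge w' with hwdef
  have hmkw : (w : C ⧸ N) = ι ((wordW.map bm).prod) := by
    have hv := wordW_eval
    simp only [Bool.and_eq_true, beq_iff_eq, List.all_eq_true, Nat.blt_eq] at hv
    obtain ⟨⟨⟨⟨hev, h5⟩, hxa⟩, hxb⟩, hxw⟩ := hv
    rw [← map_prod_eq ι D.a hia fun c hc => Nat.lt_succ_of_lt (h5 c hc)]
    have hval := (D.evw_spec h5).1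
    rw [UFourThree.Adj.val] at hval
    rw [hval, hev]
    show _ = B.ctx.psi 288
    refine Eq.trans ?_ (B.exists_outer'.some.psi_kx (x := 288) ⟨by norm_num, hxw⟩).symm
    rw [B.kx_def, hxa, hxb, UFourThree.sl_zero, hBw]
    rfl
  obtain ⟨hab, haw, hbw⟩ := bm_words
  obtain ⟨α, hα⟩ := QuotientGroup.mk_surjective (ι ((wordA.map bm).prod))
  obtain ⟨β, hβ⟩ := QuotientGroup.mk_surjective (ι ((wordB.map bm).prod))
  have hwN : (w : C ⧸ N) ≠ 1 := by
    intro h
    obtain ⟨n, hn'⟩ := mem_powers_iff_mem_zpowers.2 ((memN w).1 ((QuotientGroup.eq_one_iff w).1 h))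
    have hlen : ∀ m < 3, (pwR rOne m).length = 6 := by decide +kernel
    have := S.sys.acts_unique rfl (hlen _ (Nat.mod_lt n (by norm_num))) hw (by
      have := S.acts_pow_y n
      rwa [show y ^ n = ((w : C) : G) from hn', show pwR rOne n = pwR rOne (n % 3) by
        rw [pwR, pwR, Nat.mod_mod]] at this)
    exact rTwo_move.2.2.2 _ (Nat.mod_lt n (by norm_num)) this
  have habw : (α : C ⧸ N) * β = w * (β * α) := by rw [hα, hβ, hmkw, ← map_mul, ← map_mul, ← map_mul, hab]
  have hnab : ¬ ∀ a b : C ⧸ N, a * b = b * a := fun h => hwN (by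
    have := habw
    rw [h (α : C ⧸ N) β] at this
    exact mul_eq_right.1 this.symm)
  have hcomm : commutator (C ⧸ N) = ⊤ := by
    refine (Subgroup.Normal.eq_bot_or_eq_top inferInstance).resolve_left fun hb => hnab fun a b => ?_
    have h' := Subgroup.commutator_mem_commutator (Subgroup.mem_top a) (Subgroup.mem_top b)
    rw [← commutator_def, hb, Subgroup.mem_bot] at h'
    exact commutatorElement_eq_one_iff_mul_comm.1 h'
  have hmapc : (commutator C).map (QuotientGroup.mk' N) = ⊤ := by
    rw [← hcomm, commutator_def, commutator_def, Subgroup.map_commutator,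
      Subgroup.map_top_of_surjective _ (QuotientGroup.mk'_surjective N)]
  have hsplit : ∀ c : C, ∃ h ∈ commutator C, ∃ n ∈ N, c = h * n := by
    intro c
    obtain ⟨h, hh, he⟩ := (hmapc ▸ Subgroup.mem_top (c : C ⧸ N) : (c : C ⧸ N) ∈ (commutator C).map (QuotientGroup.mk' N))
    exact ⟨h, hh, h⁻¹ * c, QuotientGroup.eq.1 he, (mul_inv_cancel_left h c).symm⟩
  have hNpow : ∀ x ∈ N, (x : G) = 1 ∨ (x : G) = y ∨ (x : G) = y * y := by
    intro x hx
    obtain ⟨n, hn'⟩ := mem_powers_iff_mem_zpowers.2 ((memN x).1 hx)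
    have hx' : (x : G) = y ^ (n % 3) := by
      rw [← show y ^ n = (x : G) from hn']
      conv_lhs => rw [← Nat.div_add_mod n 3, pow_add, pow_mul, show y ^ 3 = 1 by rw [pow_succ, pow_two, S.cube],
        one_pow, one_mul]
    rw [hx']
    have := Nat.mod_lt n (show 3 > 0 by norm_num)
    interval_cases n % 3 <;> simp [pow_two]
  let yC : C := ⟨y, hmemC (Commute.refl y)⟩
  have hyin : yC ∈ commutator C := by
    by_contra hyno
    have htriv : ∀ x ∈ N, x ∈ commutator C → x = 1 := by
      intro x hx hxc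
      rcases hNpow x hx with e | e | e
      · exact Subtype.ext e
      · exact absurd ((Subtype.ext e : x = yC) ▸ hxc) hyno
      · refine absurd ?_ hyno
        have : x * x = yC := Subtype.ext (by
          show (x : G) * x = y
          rw [e]
          calc y * y * (y * y) = y * y * y * y := by group
            _ = y := by rw [S.cube, one_mul])
        exact this ▸ mul_mem hxc hxc
    -- the outer element normalises
    obtain ⟨d, hdy, hdw⟩ := S.exists_outer hw hw3
    have hdC : ∀ c : C, d * (c : G) * d⁻¹ ∈ C := by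
      intro c
      refine hmemC ?_
      have hy2 : Commute (d * (c : G) * d⁻¹) (y * y) := by
        rw [← hdy]
        show d * (c : G) * d⁻¹ * (d * y * d⁻¹) = d * y * d⁻¹ * (d * (c : G) * d⁻¹)
        calc d * (c : G) * d⁻¹ * (d * y * d⁻¹) = d * ((c : G) * y) * d⁻¹ := by group
          _ = _ := by rw [(hcy c).eq]; group
      have : y * y * (y * y) = y := by
        calc y * y * (y * y) = y * y * y * y := by group
          _ = y := by rw [S.cube, one_mul]
      exact this ▸ hy2.mul_right hy2
    let δ : C →* C := MonoidHom.mk' (fun c => ⟨d * (c : G) * d⁻¹, hdC c⟩) fun a b => Subtype.ext (by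
      show d * ((a : G) * b) * d⁻¹ = d * a * d⁻¹ * (d * b * d⁻¹)
      group)
    have hδ : ∀ x ∈ commutator C, δ x ∈ commutator C := by
      intro x hx
      have hle : (commutator C).map δ ≤ commutator C := by
        rw [commutator_def, Subgroup.map_commutator]
        exact Subgroup.commutator_mono le_top le_top
      exact hle ⟨x, hx, rfl⟩
    have hwin : w ∈ commutator C := by
      obtain ⟨h, hh, n, hn', he⟩ := hsplit w
      have hδw : δ w = w := Subtype.ext hdw
      have hδn : (δ n : G) = (n : G) * n := by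
        show d * (n : G) * d⁻¹ = _
        rcases hNpow n hn' with e | e | e <;> rw [e]
        · group
        · exact hdy
        · calc d * (y * y) * d⁻¹ = d * y * d⁻¹ * (d * y * d⁻¹) := by group
            _ = _ := by rw [hdy]
      have hn1 : n = (δ h)⁻¹ * h := by
        have hw' := hδw
        rw [he, map_mul, show δ n = n * n from Subtype.ext hδn, ← mul_assoc] at hw'
        rw [eq_inv_mul_iff_mul_eq]
        exact mul_right_cancel hw'
      rw [he, htriv n hn' (hn1 ▸ mul_mem (inv_mem (hδ h hh)) hh), mul_one]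
      exact hh
    have hcommw : ∀ a : C, (a : C ⧸ N) * w = w * a → a * w = w * a := by
      intro a ha
      have h1 : a * w * a⁻¹ * w⁻¹ ∈ N := by
        rw [← QuotientGroup.eq_one_iff]
        simp only [QuotientGroup.mk_mul, QuotientGroup.mk_inv]
        rw [ha]
        group
      have h2 := htriv _ h1 (mul_mem ((inferInstance : (commutator C).Normal).conj_mem _ hwin a) (inv_mem hwin))
      exact mul_inv_eq_iff_eq_mul.1 (mul_inv_eq_one.1 h2)
    have hαw := hcommw α (by rw [hα, hmkw, ← map_mul, ← map_mul, haw])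
    have hβw := hcommw β (by rw [hβ, hmkw, ← map_mul, ← map_mul, hbw])
    have hcw : α * β * α⁻¹ * β⁻¹ = w := by
      have hc : α * β * α⁻¹ * β⁻¹ ∈ commutator C :=
        Subgroup.commutator_mem_commutator (Subgroup.mem_top α) (Subgroup.mem_top β)
      refine inv_mul_eq_one.1 (htriv _ ?_ (mul_mem (inv_mem hc) hwin))
      rw [← QuotientGroup.eq_one_iff]
      simp only [QuotientGroup.mk_mul, QuotientGroup.mk_inv]
      rw [habw]
      group
    -- move to the rotation
    obtain ⟨c, hc⟩ := S.exists_to_rot hw hw3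
    have hmove : ∀ a : C, a * w = w * a → c * (a : G) * c⁻¹ ∈ C := by
      intro a ha
      have ha' : (a : G) * w = w * a := congrArg Subtype.val ha
      refine hmemC ?_
      have h1 : Commute (c * (a : G) * c⁻¹) (c * (w : G) * c⁻¹) := by
        show c * (a : G) * c⁻¹ * (c * (w : G) * c⁻¹) = c * (w : G) * c⁻¹ * (c * (a : G) * c⁻¹)
        calc c * (a : G) * c⁻¹ * (c * (w : G) * c⁻¹) = c * ((a : G) * w) * c⁻¹ := by group
          _ = _ := by rw [ha']; group
      have hcw' : (c * (w : G) * c⁻¹) = y ∨ c * (w : G) * c⁻¹ = y * y := hc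
      rcases hcw' with e | e <;> rw [e] at h1
      · exact h1
      · have : y * y * (y * y) = y := by
          calc y * y * (y * y) = y * y * y * y := by group
            _ = y := by rw [S.cube, one_mul]
        exact this ▸ h1.mul_right h1
    let α' : C := ⟨_, hmove α hαw⟩
    let β' : C := ⟨_, hmove β hβw⟩
    have hv : α' * β' * α'⁻¹ * β'⁻¹ ∈ commutator C :=
      Subgroup.commutator_mem_commutator (Subgroup.mem_top α') (Subgroup.mem_top β')
    have hval : ((α' * β' * α'⁻¹ * β'⁻¹ : C) : G) = c * (w : G) * c⁻¹ := by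
      rw [← hcw]
      show c * (α : G) * c⁻¹ * (c * β * c⁻¹) * (c * α * c⁻¹)⁻¹ * (c * β * c⁻¹)⁻¹ =
        c * ((α : G) * β * (α : G)⁻¹ * (β : G)⁻¹) * c⁻¹
      group
    rcases hc with e | e
    · exact hyno ((Subtype.ext (hval.trans e) : α' * β' * α'⁻¹ * β'⁻¹ = yC) ▸ hv)
    · have : (α' * β' * α'⁻¹ * β'⁻¹) * (α' * β' * α'⁻¹ * β'⁻¹) = yC := Subtype.ext (by
        rw [Subgroup.coe_mul, hval, show c * (w : G) * c⁻¹ = y * y from e]
        show y * y * (y * y) = y
        calc y * y * (y * y) = y * y * y * y := by group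
          _ = y := by rw [S.cube, one_mul])
      exact hyno (this ▸ mul_mem hv hv)
  have hNle : N ≤ commutator C := by
    intro x hx
    rcases hNpow x hx with e | e | e
    · rw [show x = 1 from Subtype.ext e]; exact one_mem _
    · rw [show x = yC from Subtype.ext e]; exact hyin
    · rw [show x = yC * yC from Subtype.ext e]; exact mul_mem hyin hyin
  have hperfect : Group.IsPerfect C := by
    refine ⟨eq_top_iff.2 fun c _ => ?_⟩
    obtain ⟨h, hh, n, hn', rfl⟩ := hsplit c
    exact mul_mem hh (hNle hn')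
  have hNc : Subgroup.center C = N := by
    refine le_antisymm (fun c hc => ?_) fun x hx => ?_
    · rw [← QuotientGroup.eq_one_iff]
      have hbot : Subgroup.center (C ⧸ N) = ⊥ := by
        refine (Subgroup.Normal.eq_bot_or_eq_top inferInstance).resolve_right fun ht => hnab fun a b => ?_
        exact Subgroup.mem_center_iff.1 (ht ▸ Subgroup.mem_top b : b ∈ Subgroup.center (C ⧸ N)) a
      rw [← Subgroup.mem_bot, ← hbot, Subgroup.mem_center_iff]
      intro t
      induction t using QuotientGroup.induction_on with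
      | _ a => rw [← QuotientGroup.mk_mul, ← QuotientGroup.mk_mul, Subgroup.mem_center_iff.1 hc a]
    · rw [Subgroup.mem_center_iff]
      intro a
      refine Subtype.ext ?_
      show (a : G) * x = x * a
      rcases hNpow x hx with e | e | e <;> rw [e]
      · simp
      · exact (hcy a).eq
      · exact ((hcy a).mul_right (hcy a)).eq
  refine ⟨⟨hperfect, ?_⟩, ⟨e.symm.trans eU⟩, ?_⟩
  · exact (QuotientGroup.quotientMulEquivOfEq hNc).isSimpleGroup
  · -- index two
    obtain ⟨d, hdy⟩ := S.exists_inverter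
    have hdy := hdy.2
    have hcube : y * y * (y * y) = y := by
      calc y * y * (y * y) = y * y * y * y := by group
        _ = y := by rw [S.cube, one_mul]
    have hyne : y * y ≠ y := fun e => S.y_ne (mul_eq_left.1 e)
    have hmem : ∀ b : G, b ∈ C ↔ b * y * b⁻¹ = y := fun b => by
      rw [hCY, mem_centralizer_singleton_iff']
      exact mul_inv_eq_iff_eq_mul.symm
    have hnorm : ∀ b ∈ Subgroup.normalizer (Yg : Set G), b * y * b⁻¹ = y ∨ b * y * b⁻¹ = y * y := by
      intro b hb
      have hy : b * y * b⁻¹ ∈ Yg := (Subgroup.mem_normalizer_iff.1 hb y).1 (hY ▸ Subgroup.mem_zpowers y)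
      rcases hNpow ⟨b * y * b⁻¹, hmemC (by
          rw [hY] at hy
          obtain ⟨k, hk⟩ := Subgroup.mem_zpowers_iff.1 hy
          rw [← hk]
          exact (Commute.refl y).zpow_left k)⟩ (by rw [memN]; exact hY ▸ hy) with e | e | e
      · exact absurd (conj_eq_one_iff.1 e) S.y_ne
      · exact Or.inl e
      · exact Or.inr e
    have hdN : d ∈ Subgroup.normalizer (Yg : Set G) := by
      refine Subgroup.mem_normalizer_iff.2 fun t => ?_
      rw [hY]
      constructor
      · intro ht
        obtain ⟨k, rfl⟩ := Subgroup.mem_zpowers_iff.1 ht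
        rw [← conj_zpow, hdy]
        exact Subgroup.zpow_mem _ (mul_mem (Subgroup.mem_zpowers y) (Subgroup.mem_zpowers y)) k
      · intro ht
        obtain ⟨k, hk⟩ := Subgroup.mem_zpowers_iff.1 ht
        rw [show t = d⁻¹ * y ^ k * d⁻¹⁻¹ by rw [hk]; group, ← conj_zpow]
        refine Subgroup.zpow_mem _ ?_ k
        have : d⁻¹ * y * d⁻¹⁻¹ = y * y := by
          have e : d * (y * y) * d⁻¹ = y := by
            rw [show d * (y * y) * d⁻¹ = d * y * d⁻¹ * (d * y * d⁻¹) by group, hdy, hcube]
          conv_lhs => rw [← e]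
          group
        rw [this]
        exact mul_mem (Subgroup.mem_zpowers y) (Subgroup.mem_zpowers y)
    rw [Subgroup.relIndex, Subgroup.index_eq_two_iff]
    refine ⟨⟨d, hdN⟩, fun b => ?_⟩
    simp only [Subgroup.mem_subgroupOf, Subgroup.coe_mul]
    rw [hmem, hmem]
    have e1 : (b : G) * d * y * ((b : G) * d)⁻¹ = (b : G) * y * (b : G)⁻¹ * ((b : G) * y * (b : G)⁻¹) := by
      rw [show (b : G) * d * y * ((b : G) * d)⁻¹ = (b : G) * (d * y * d⁻¹) * (b : G)⁻¹ by group, hdy]
      group
    rw [e1]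
    rcases hnorm b b.2 with e | e <;> rw [e]
    · exact Or.inr ⟨rfl, hyne⟩
    · exact Or.inl ⟨hcube, hyne⟩

end Std

end CfsgLib.Recog.SuzThree
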