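import Cfsg.Agent.Lib.LocalEvenB.SuzType.Facts
import Cfsg.Agent.Lib.Recog.SuzThree.Data

set_option autoImplicit false
set_option maxRecDepth 100000
set_option Elab.async false

/-!
Finite facts on the rotations of anisotropic planes in the minus space of dimension six over two elements
(owner: helper22).
-/

namespace CfsgLib.Recog.SuzThree

open CfsgLib.LocalEvenB.SuzType

/-- the inverse of the first rotation -/
def rOneInv : List Nat := comp rOne rOne

/-- the anisotropic plane -/
def planeOne : List Nat := [0, 16, 32, 48]

/-- a totally singular line -/
def lineZero : List Nat := [0, 1, 4, 5]

/-- values of a basis vector under an isometry moving inside a given line -/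
def optB (S : List Nat) (e : Nat) : List Nat := (S.map (e ^^^ ·)).filter fun x => qb x == qb e

/-- the candidates for an isometry moving inside a given line -/
def candB (S : List Nat) : List (List Nat) :=
  (optB S 1).flatMap fun a => (optB S 2).flatMap fun b => (optB S 4).flatMap fun c => (optB S 8).flatMap fun d =>
    (optB S 16).flatMap fun e => (optB S 32).map fun f => [a, b, c, d, e, f]

/-- cube one and moving inside a line -/
def moveB (S A : List Nat) : Bool :=
  comp A (comp A A) == one && (isoB A && (List.range 64).all fun n => S.contains (n ^^^ app A n))

theorem classify_plane : (candB planeOne).all (fun A => !(moveB planeOne A) || A == one || A == rOne || A == rOneInv) = true := by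
  decide +kernel

theorem classify_line : (candB lineZero).all (fun A => !(moveB lineZero A) || A == one) = true := by decide +kernel

theorem rot_facts : (isoB rOne && isoB rTwo && isoB rThree && comp rOne (comp rOne rOne) == one &&
    comp rTwo (comp rTwo rTwo) == one && comp rThree (comp rThree rThree) == one && rOne != one && rOneInv != one &&
    (List.range 64).all (fun n => (fixB rOne n == decide (n < 16)) && planeOne.contains (n ^^^ app rOne n) &&
      [0, 3, 13, 14].contains (n ^^^ app rTwo n) && [0, 7, 11, 12].contains (n ^^^ app rThree n))) = true := by
  decide +kernel

theorem lineMaps_words : lineMaps.all (fun e => e.1 == wmap e.2) = true := by decide +kernel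

theorem centList_words : centList.all (fun e => e.1 == wmap e.2 && comp e.1 rOne == comp rOne e.1) = true := by
  decide +kernel

theorem centList_nodup : centList.length = 108 ∧ (centList.map Prod.fst).Nodup := by decide +kernel

/-- the entry of a line -/
def lineAt (a b : Nat) : List Nat × List Nat :=
  lineMaps.getD (Nat.land (Nat.shiftRight lineIdx (8 * (64 * a + b))) 255) ([], [])

theorem line_check : (List.range 64).all (fun a => (List.range 64).all fun b =>
    a == 0 || b == 0 || a == b || !(qb a == qb b && qb a == qb (a ^^^ b)) ||
      (let S := bif qb a then planeOne else lineZero
       S.contains (app (lineAt a b).1 a) && S.contains (app (lineAt a b).1 b) &&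
       decide (Nat.land (Nat.shiftRight lineIdx (8 * (64 * a + b))) 255 < 165))) = true := by decide +kernel

theorem lineMaps_length : lineMaps.length = 165 := by decide +kernel

theorem sect_pair : sect.all (fun v => sect.all fun w => v == 0 || w == 0 || v == w ||
    decide ((sect.filter fun u => !(bb u v) && !(bb u w)).length ≤ 4)) = true := by decide +kernel

theorem reduce_bb : (List.range 64).all (fun n => (List.range 64).all fun m =>
    bb n 1 || bb m 1 || (bb (n &&& 60) (m &&& 60) == bb n m)) = true := by decide +kernel

theorem map_words : dMap = wmap dWord ∧ wMap = wmap wWord := by decide +kernel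

theorem dMap_facts : (comp dMap rOne == comp rOneInv dMap && comp dMap rTwo == comp rTwo dMap) = true := by
  decide +kernel

theorem wMap_facts : (comp wMap rTwo == comp rOne wMap || comp wMap rTwo == comp rOneInv wMap) = true := by decide +kernel

theorem rho_comm : (comp rOne (rho 4) == comp (rho 4) rOne) && (comp rOne (rho 8) == comp (rho 8) rOne) = true := by
  decide +kernel

end CfsgLib.Recog.SuzThree
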