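import Cfsg.Agent.Lib.Recog.SuzThree.Centralizer
import Cfsg.Agent.Lib.Recog.UFourThree.FromHyp

set_option autoImplicit false
set_option linter.unusedSectionVars false
set_option maxRecDepth 100000

/-!
The two copies of SL(2,3) centralising the element of order three (owner: helper22).
-/

namespace CfsgLib.Recog.SuzThree

open CfsgLib.LocalEvenB.SuzType CfsgLib.ThreeTrans
open CfsgLib.Recog.UFourThree (SL23 sl m24)

/-- sign, quaternion and rotation part of an element of SL(2,3) -/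
def codeSL : List (Bool × Nat × Nat) :=
  [(false, 0, 0), (false, 1, 0), (true, 2, 2), (false, 0, 1), (false, 1, 2), (true, 2, 1), (true, 1, 1), (false, 2, 0),
    (true, 0, 2), (false, 3, 2), (false, 3, 1), (false, 3, 0), (true, 0, 0), (true, 1, 0), (false, 2, 2), (true, 0, 1),
    (true, 1, 2), (false, 2, 1), (false, 1, 1), (true, 2, 0), (false, 0, 2), (true, 3, 2), (true, 3, 1), (true, 3, 0)]

/-- the code of an element -/
def cd (k : Nat) : Bool × Nat × Nat := codeSL.getD k (false, 0, 0)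

/-- sign of a product of two quaternion units -/
def qs (t u : Nat) : Bool :=
  [[false, false, false, false], [false, true, false, true], [false, true, true, false],
    [false, false, true, true]].getD t [] |>.getD u false

theorem code_facts : ∀ k < 24, (cd k).2.1 < 4 ∧ (cd k).2.2 < 3 ∧
    cd (m24 k 1) = ((cd k).1 ^^ qs (cd k).2.1 (1 + (cd k).2.2), Nat.xor (cd k).2.1 (1 + (cd k).2.2), (cd k).2.2) ∧
    cd (m24 k 3) = ((cd k).1, (cd k).2.1, ((cd k).2.2 + 1) % 3) ∧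
    (UFourThree.m24 (m24 k k) (m24 k k) = 0 → (cd k).2.2 = 0) ∧
    ((cd k).2.1 = 0 → (cd k).2.2 = 0 → k = 0 ∨ k = 12) := by decide +kernel

theorem code_onto : ∀ t < 4, ∀ m < 3, ∃ k < 24, cd k = (false, t, m) := by decide +kernel

theorem sl_reach : ((List.range 24).all fun k => ((List.range 7).flatMap fun n => (List.range (2 ^ n)).map fun v =>
    (List.range n).map fun i => if v.testBit i then 1 else 3).any fun w => w.foldl m24 0 == k) = true := by
  decide +kernel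

section

variable {G : Type*} [Group G] (z i w : G)

/-- the four units -/
def unit (t : Nat) : G := [1, i, w * i * w⁻¹, w * (w * i * w⁻¹) * w⁻¹].getD t 1

/-- the element with a given code -/
def fv (k : Nat) : G := sg z (cd k).1 * unit i w (cd k).2.1 * w ^ (cd k).2.2

/-- the relations of SL(2,3) -/
structure Rel : Prop where
  zz : z * z = 1
  iz : Commute i z
  wz : Commute w z
  ii : i * i = z
  ij : i * (w * i * w⁻¹) = w * (w * i * w⁻¹) * w⁻¹
  ji : w * i * w⁻¹ * i = z * (w * (w * i * w⁻¹) * w⁻¹)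
  www : w * w * w = 1

variable {z i w}

theorem foldl_m24 {c : Nat} (hc : c < 24) : ∀ {ws : List Nat}, (∀ g ∈ ws, g = 1 ∨ g = 3) →
    ws.foldl m24 c < 24 ∧ ∀ a < 24, ws.foldl m24 (m24 a c) = m24 a (ws.foldl m24 c)
  | [], _ => ⟨hc, fun _ _ => rfl⟩
  | g :: ws, h => by
    have hg : g < 24 := by rcases h g List.mem_cons_self with rfl | rfl <;> norm_num
    have hcg := (UFourThree.sl_mul hc hg).1
    have ih := foldl_m24 hcg (ws := ws) fun x hx => h x (List.mem_cons_of_mem _ hx)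
    refine ⟨ih.1, fun a ha => ?_⟩
    have e : m24 (m24 a c) g = m24 a (m24 c g) := by
      refine UFourThree.sl_inj (UFourThree.sl_mul (UFourThree.sl_mul ha hc).1 hg).1 (UFourThree.sl_mul ha hcg).1 ?_
      rw [(UFourThree.sl_mul (UFourThree.sl_mul ha hc).1 hg).2, (UFourThree.sl_mul ha hc).2,
        (UFourThree.sl_mul ha hcg).2, (UFourThree.sl_mul hc hg).2, mul_assoc]
    rw [List.foldl_cons, List.foldl_cons, e]
    exact ih.2 a ha

namespace Rel

variable (R : Rel z i w)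
include R

theorem sg_mul' (a b : Bool) : sg z a * sg z b = sg z (a ^^ b) := by
  cases a <;> cases b <;> simp [sg, R.zz]

theorem sg_comm' {c : G} (hc : Commute c z) (a : Bool) : Commute c (sg z a) := by
  cases a
  · exact Commute.one_right c
  · exact hc

theorem unit_z (t : Nat) : Commute (unit i w t) z := by
  have hj : Commute (w * i * w⁻¹) z := (R.wz.mul_left R.iz).mul_left R.wz.inv_left
  have hk : Commute (w * (w * i * w⁻¹) * w⁻¹) z := (R.wz.mul_left hj).mul_left R.wz.inv_left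
  match t with
  | 0 => exact Commute.one_left z
  | 1 => exact R.iz
  | 2 => exact hj
  | 3 => exact hk
  | n + 4 => exact Commute.one_left z

theorem unit_mul : ∀ t < 4, ∀ u < 4, unit i w t * unit i w u = sg z (qs t u) * unit i w (Nat.xor t u) := by
  obtain ⟨j, hj⟩ : ∃ j, j = w * i * w⁻¹ := ⟨_, rfl⟩
  obtain ⟨k, hk⟩ : ∃ k, k = w * j * w⁻¹ := ⟨_, rfl⟩
  have hwk : w * k * w⁻¹ = i := by
    rw [hk, hj, show w * (w * (w * i * w⁻¹) * w⁻¹) * w⁻¹ = w * w * w * i * (w * w * w)⁻¹ by group, R.www]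
    group
  have hwz : w * z * w⁻¹ = z := by rw [R.wz.eq, mul_inv_cancel_right]
  have hjz : Commute j z := hj ▸ R.unit_z 2
  have hii := R.ii
  have hij : i * j = k := by rw [hk, hj]; exact R.ij
  have hji : j * i = z * k := by rw [hk, hj]; exact R.ji
  have hjj : j * j = z := by
    rw [hj, show w * i * w⁻¹ * (w * i * w⁻¹) = w * (i * i) * w⁻¹ by group, hii, hwz]
  have hkk : k * k = z := by
    rw [hk, show w * j * w⁻¹ * (w * j * w⁻¹) = w * (j * j) * w⁻¹ by group, hjj, hwz]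
  have hjk : j * k = i := by
    calc j * k = w * i * w⁻¹ * (w * j * w⁻¹) := by rw [hk, hj]
      _ = w * (i * j) * w⁻¹ := by group
      _ = _ := by rw [hij, hwk]
  have hki : k * i = j := by
    calc k * i = w * j * w⁻¹ * (w * k * w⁻¹) := by rw [hwk, hk]
      _ = w * (j * k) * w⁻¹ := by group
      _ = _ := by rw [hjk, ← hj]
  have hkj : k * j = z * i := by
    calc k * j = w * j * w⁻¹ * (w * i * w⁻¹) := by rw [hk, hj]
      _ = w * (j * i) * w⁻¹ := by group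
      _ = w * z * w⁻¹ * (w * k * w⁻¹) := by rw [hji]; group
      _ = _ := by rw [hwz, hwk]
  have hik : i * k = z * j := by
    calc i * k = w * k * w⁻¹ * (w * j * w⁻¹) := by rw [hwk, hk]
      _ = w * (k * j) * w⁻¹ := by group
      _ = w * z * w⁻¹ * (w * i * w⁻¹) := by rw [hkj]; group
      _ = _ := by rw [hwz, ← hj]
  intro t ht u hu
  simp only [unit, ← hj, ← hk]
  interval_cases t <;> interval_cases u <;>
    simp [qs, sg, hii, hjj, hkk, hij, hji, hjk, hki, hkj, hik]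

theorem pow_i (m : Nat) (hm : m < 3) : w ^ m * i = unit i w (1 + m) * w ^ m := by
  interval_cases m
  · simp [unit]
  · simp [unit]
  · simp [unit, pow_two, mul_assoc]

theorem fv_zero : fv z i w 0 = 1 := by simp [fv, cd, codeSL, unit, sg]

theorem fv_mul_gen {k g : Nat} (hk : k < 24) (hg : g = 1 ∨ g = 3) :
    fv z i w (m24 k g) = fv z i w k * fv z i w g := by
  obtain ⟨ht, hm, h1, h3, -, -⟩ := code_facts k hk
  have e1 : fv z i w 1 = i := by simp [fv, cd, codeSL, unit, sg]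
  have e3 : fv z i w 3 = w := by simp [fv, cd, codeSL, unit, sg]
  rcases hg with rfl | rfl
  · rw [e1, fv, fv, h1]
    obtain ⟨⟨s, t, m⟩, hc⟩ : ∃ c, c = cd k := ⟨_, rfl⟩
    rw [← hc] at ht hm ⊢
    simp only at ht hm ⊢
    rw [mul_assoc (sg z s * unit i w t), R.pow_i m hm, ← mul_assoc, mul_assoc (sg z s) (unit i w t),
      R.unit_mul t ht _ (by omega), ← mul_assoc, R.sg_mul']
  · rw [e3, fv, fv, h3]
    obtain ⟨⟨s, t, m⟩, hc⟩ : ∃ c, c = cd k := ⟨_, rfl⟩
    rw [← hc] at ht hm ⊢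
    simp only at ht hm ⊢
    rw [mul_assoc (sg z s * unit i w t), ← pow_succ]
    congr 1
    interval_cases m <;> simp [pow_succ, R.www]

theorem fv_foldl : ∀ {ws : List Nat}, (∀ g ∈ ws, g = 1 ∨ g = 3) → ∀ c < 24,
    fv z i w (ws.foldl m24 c) = fv z i w c * (ws.map (fv z i w)).prod
  | [], _, c, _ => by simp
  | g :: ws, h, c, hc => by
    have hg : g < 24 := by rcases h g List.mem_cons_self with rfl | rfl <;> norm_num
    rw [List.foldl_cons, fv_foldl (fun x hx => h x (List.mem_cons_of_mem _ hx)) _ (UFourThree.sl_mul hc hg).1,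
      R.fv_mul_gen hc (h g List.mem_cons_self), List.map_cons, List.prod_cons, mul_assoc]

theorem fv_mul {a b : Nat} (ha : a < 24) (hb : b < 24) : fv z i w (m24 a b) = fv z i w a * fv z i w b := by
  have h := sl_reach
  simp only [List.all_eq_true, List.any_eq_true, List.mem_range, beq_iff_eq, List.mem_flatMap, List.mem_map] at h
  obtain ⟨ws, ⟨n, -, v, -, rfl⟩, he⟩ := h b hb
  have hws : ∀ g ∈ (List.range n).map (fun i => if v.testBit i then 1 else 3), g = 1 ∨ g = 3 := by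
    intro g hg
    obtain ⟨i, -, rfl⟩ := List.mem_map.1 hg
    split <;> simp
  have e0 : m24 a 0 = a := by
    refine UFourThree.sl_inj (UFourThree.sl_mul ha (by norm_num)).1 ha ?_
    rw [(UFourThree.sl_mul ha (by norm_num)).2, UFourThree.sl_zero, mul_one]
  rw [← he, ← (foldl_m24 (c := 0) (by norm_num) hws).2 a ha, e0, R.fv_foldl hws a ha, R.fv_foldl hws 0 (by norm_num),
    R.fv_zero, one_mul]

/-- the homomorphism -/
theorem exists_hom : ∃ f : SL23 →* G, ∀ k < 24, f (sl k) = fv z i w k := by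
  choose g hg hgs using UFourThree.exists_sl
  refine ⟨MonoidHom.mk' (fun x => fv z i w (g x)) fun x x' => ?_, fun k hk => ?_⟩
  · show fv z i w (g (x * x')) = _
    rw [← R.fv_mul (hg x) (hg x')]
    refine congrArg _ (UFourThree.sl_inj (hg _) (UFourThree.sl_mul (hg x) (hg x')).1 ?_)
    rw [hgs, (UFourThree.sl_mul (hg x) (hg x')).2, hgs, hgs]
  · show fv z i w (g (sl k)) = _
    rw [UFourThree.sl_inj (hg _) hk (hgs _)]

theorem fv_twelve : fv z i w 12 = z := by simp [fv, cd, codeSL, unit, sg]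

theorem commute_fv {x : G} (hz : Commute x z) (hi : Commute x i) (hw : Commute x w) (k : Nat) :
    Commute x (fv z i w k) := by
  have hu : ∀ t, Commute x (unit i w t) := fun t => by
    have hj : Commute x (w * i * w⁻¹) := (hw.mul_right hi).mul_right hw.inv_right
    match t with
    | 0 => exact Commute.one_right x
    | 1 => exact hi
    | 2 => exact hj
    | 3 => exact (hw.mul_right hj).mul_right hw.inv_right
    | n + 4 => exact Commute.one_right x
  exact ((R.sg_comm' hz _).mul_right (hu _)).mul_right (hw.pow_right _)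

end Rel

end

/-- powers of a rotation -/
def pwR (R : List Nat) (m : Nat) : List Nat := [one, R, comp R R].getD (m % 3) one

/-- the coordinates of the four units -/
def ptab (R : List Nat) (n t : Nat) : Nat := [0, n, app R n, app R (app R n)].getD t 0

/-- a rotation with a point moved by it -/
def factorB (R : List Nat) (n : Nat) : Bool :=
  centMaps.contains R && (comp R (comp R R) == one) && decide (n < 16) && decide (app R n < 16) &&
    decide (app R (app R n) < 16) && qb n && bb n (app R n) && (app R (app R n) == (n ^^^ app R n)) &&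
    (R.length == 6)

theorem factor_facts : (factorB rTwo 3 && factorB rThree 7) = true := by decide +kernel

theorem pair_facts : app rThree 3 = 3 ∧ app rTwo 7 = 7 ∧ app rTwo 11 = 11 ∧ bb 3 7 = false ∧
    comp rTwo rThree = comp rThree rTwo ∧
    (∀ n < 16, bb n 3 = false → bb n 13 = false → bb n 7 = false → bb n 11 = false → n = 0) ∧
    app rTwo 3 = 13 ∧ app rThree 7 = 11 := by decide +kernel

theorem nine_check : (List.range 3).all (fun a => (List.range 3).all fun b => (List.range 3).all fun n =>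
    !(comp (pwR rTwo a) (pwR rThree b) == pwR rOne n) || (a == 0 && b == 0 && n == 0)) = true := by decide +kernel

theorem nine_facts {a b n : Nat} (ha : a < 3) (hb : b < 3) (hn : n < 3)
    (h : comp (pwR rTwo a) (pwR rThree b) = pwR rOne n) : a = 0 ∧ b = 0 ∧ n = 0 := by
  have := List.all_eq_true.1 (List.all_eq_true.1 (List.all_eq_true.1 nine_check a (List.mem_range.2 ha)) b
    (List.mem_range.2 hb)) n (List.mem_range.2 hn)
  simpa [h, and_assoc] using this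

theorem nine_comp : ∀ a < 3, ∀ b < 3, nineMaps.contains (comp (pwR rTwo a) (pwR rThree b)) = true := by decide +kernel

theorem nine_split : nineMaps.all (fun N => (List.range 3).any fun a => (List.range 3).any fun b =>
    N == comp (pwR rTwo a) (pwR rThree b)) = true := by decide +kernel

theorem perp_facts : (∀ t < 4, ∀ u < 4, ptab rTwo 3 t ^^^ ptab rThree 7 u = 0 → t = 0 ∧ u = 0) ∧
    (∀ n < 16, ∃ t < 4, ∃ u < 4, ptab rTwo 3 t ^^^ ptab rThree 7 u = n) ∧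
    (∀ t < 4, ptab rTwo 3 t < 16 ∧ ptab rThree 7 t < 16) := by decide +kernel

variable {G : Type*} [Group G] [Finite G] {z : G} {Q : Subgroup G} {p : G → Nat} {y : G}

/-- the two factors -/
structure Fac (z : G) (Q : Subgroup G) (p : G → Nat) (y : G) (φ : SL23 × SL23 →* G) : Prop where
  phi_z : φ (1, -1) = z
  phi_z' : φ (-1, 1) = z
  phi_neg : φ (-1, -1) = 1
  comm_z : ∀ x, Commute (φ x) z
  comm_y : ∀ x, Commute (φ x) y
  ker : ∀ x, ∀ n : ℕ, φ x = y ^ n → x = 1 ∨ x = (-1, -1)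
  acts : ∀ x, ∃ N ∈ nineMaps, Acts z Q p (φ x) N
  surj : ∀ c, ∀ N ∈ nineMaps, Acts z Q p c N → Commute c y → ∃ x, φ x = c
  core : ∀ x : SL23 × SL23, x.1 ^ 4 = 1 → x.2 ^ 4 = 1 → φ x ∈ Q
  p_core : ∀ k l, k < 24 → l < 24 → (cd k).2.2 = 0 → (cd l).2.2 = 0 →
    φ (sl k, sl l) ∈ Q ∧ p (φ (sl k, sl l)) = ptab rTwo 3 (cd k).2.1 ^^^ ptab rThree 7 (cd l).2.1
  rot : Acts z Q p (φ (sl 3, 1)) rTwo

namespace Std

variable (S : Std z Q p y)
include S

theorem acts_pow {w : G} {R : List Nat} (hl : R.length = 6) (hw : Acts z Q p w R) :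
    ∀ m < 3, Acts z Q p (w ^ m) (pwR R m) := by
  intro m hm
  interval_cases m
  · rw [pow_zero]; exact S.sys.acts_one
  · rw [pow_one]; exact hw
  · rw [pow_two]; exact S.sys.acts_mul hl hw hw

theorem acts_pow_y (n : ℕ) : Acts z Q p (y ^ n) (pwR rOne n) := by
  have h3 : y ^ 3 = 1 := by rw [pow_succ, pow_two]; exact S.cube
  rw [show y ^ n = y ^ (n % 3) by conv_lhs => rw [← Nat.div_add_mod n 3, pow_add, pow_mul, h3, one_pow, one_mul],
    show pwR rOne n = pwR rOne (n % 3) by rw [pwR, pwR, Nat.mod_mod]]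
  exact S.acts_pow rfl S.act _ (Nat.mod_lt _ (by norm_num))

/-- one factor -/
theorem exists_factor {R : List Nat} {n : Nat} (hf : factorB R n = true) :
    ∃ i w, Rel z i w ∧ i ∈ Q ∧ p i = n ∧ Commute i y ∧ Acts z Q p w R ∧ Commute w y := by
  simp only [factorB, Bool.and_eq_true, List.contains_iff_mem, beq_iff_eq, decide_eq_true_eq] at hf
  obtain ⟨⟨⟨⟨⟨⟨⟨⟨hmem, hR3⟩, hn⟩, hn1⟩, hn2⟩, hq⟩, hb⟩, hsum⟩, hl⟩ := hf
  obtain ⟨c, hc, hcy⟩ := S.exists_cent hmem
  obtain ⟨w, hw3, hw, hwc⟩ := exists_three S.sys hl hR3 hc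
  have hwy : Commute w y := (hwc y hcy.symm).symm
  have hq' : ∀ i ∈ Q, p i = n → Rel z i w ∨ i * (w * i * w⁻¹) = z * (w * (w * i * w⁻¹) * w⁻¹) := by
    intro i hi hpi
    have hj := S.sys.large.conj_mem hw.1 hi
    have hk := S.sys.large.conj_mem hw.1 hj
    have hii : i * i = z := by rw [S.sys.sq i hi, hpi, hq]; rfl
    have hji : w * i * w⁻¹ * i = z * (i * (w * i * w⁻¹)) := by
      have := S.sys.comm hj hi
      rw [hw.2 i hi, hpi, bb_comm, hb, show sg z true = z from rfl, mul_inv_eq_iff_eq_mul, mul_inv_eq_iff_eq_mul] at this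
      exact this.trans (mul_assoc _ _ _)
    obtain ⟨b, e⟩ := S.sys.eq_of_p hk (Q.mul_mem hi hj)
      (by rw [S.sys.map_mul i hi _ hj, hw.2 _ hj, hw.2 i hi, hpi, hsum])
    have hzk : Commute (w * (w * i * w⁻¹) * w⁻¹) z := S.sys.large.commute_z hk
    cases b with
    | false =>
      rw [show sg z false = 1 from rfl, mul_one] at e
      exact Or.inl ⟨S.sys.large.mul_self_z, S.sys.large.commute_z hi, hw.1, hii, e, by rw [hji, e], hw3⟩
    | true => exact Or.inr (by rw [e, show sg z true = z from rfl, hzk.eq])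
  obtain ⟨i, hi, hpi⟩ := S.sys.surj n (by omega)
  have hiy : ∀ i ∈ Q, p i = n → Commute i y := fun i hi hpi => ((S.mem_core_iff hi).2 (hpi ▸ hn)).symm
  rcases hq' i hi hpi with hrel | hbad
  · exact ⟨i, w, hrel, hi, hpi, hiy i hi hpi, hw, hwy⟩
  have hi' : i * z ∈ Q := Q.mul_mem hi S.sys.large.z_mem
  have hpi' : p (i * z) = n := by rw [S.sys.map_mul i hi _ S.sys.large.z_mem, hpi, S.sys.z0, Nat.xor_zero]
  rcases hq' _ hi' hpi' with hrel | hbad'
  · exact ⟨_, w, hrel, hi', hpi', hiy _ hi' hpi', hw, hwy⟩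
  exfalso
  have hzz := S.sys.large.mul_self_z
  have hj : Commute (w * i * w⁻¹) z := S.sys.large.commute_z (S.sys.large.conj_mem hw.1 hi)
  have e1 : w * (i * z) * w⁻¹ = w * i * w⁻¹ * z := by
    calc w * (i * z) * w⁻¹ = w * i * w⁻¹ * (w * z * w⁻¹) := by group
      _ = _ := by rw [hw.1.eq, mul_inv_cancel_right]
  have e2 : w * (w * (i * z) * w⁻¹) * w⁻¹ = w * (w * i * w⁻¹) * w⁻¹ * z := by
    rw [e1]
    calc w * (w * i * w⁻¹ * z) * w⁻¹ = w * (w * i * w⁻¹) * w⁻¹ * (w * z * w⁻¹) := by group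
      _ = _ := by rw [hw.1.eq, mul_inv_cancel_right]
  have e3 : i * z * (w * i * w⁻¹ * z) = i * (w * i * w⁻¹) := by
    calc i * z * (w * i * w⁻¹ * z) = i * (z * (w * i * w⁻¹)) * z := by group
      _ = i * (w * i * w⁻¹) * (z * z) := by rw [← hj.eq]; group
      _ = _ := by rw [hzz, mul_one]
  rw [e2, e1, e3, hbad] at hbad'
  exact S.sys.large.z_ne_one (mul_eq_left.1 (mul_left_cancel hbad').symm)

theorem unit_data {R : List Nat} {n : Nat} (hl : R.length = 6) {i w : G} (hi : i ∈ Q) (hpi : p i = n)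
    (hw : Acts z Q p w R) : ∀ t < 4, unit i w t ∈ Q ∧ p (unit i w t) = ptab R n t := by
  intro t ht
  have hj := S.sys.large.conj_mem hw.1 hi
  have hk := S.sys.large.conj_mem hw.1 hj
  interval_cases t
  · exact ⟨Q.one_mem, S.sys.p_one⟩
  · exact ⟨hi, hpi⟩
  · exact ⟨hj, by show p (w * i * w⁻¹) = app R n; rw [hw.2 i hi, hpi]⟩
  · exact ⟨hk, by show p (w * (w * i * w⁻¹) * w⁻¹) = app R (app R n); rw [hw.2 _ hj, hw.2 i hi, hpi]⟩

theorem fv_acts {R : List Nat} {n : Nat} (hl : R.length = 6) (hR : ∀ m < 3, comp one (pwR R m) = pwR R m ∧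
      (pwR R m).length = 6) {i w : G} (hi : i ∈ Q) (hpi : p i = n) (hw : Acts z Q p w R) {k : Nat} (hk : k < 24) :
    Acts z Q p (fv z i w k) (pwR R (cd k).2.2) := by
  obtain ⟨ht, hm, -⟩ := code_facts k hk
  have := S.sys.acts_mul (hR _ hm).2 (S.sys.acts_of_mem (Q.mul_mem (S.sys.sg_mem (cd k).1)
    (S.unit_data hl hi hpi hw _ ht).1)) (S.acts_pow hl hw _ hm)
  rw [(hR _ hm).1] at this
  exact this

theorem fv_core {R : List Nat} {n : Nat} (hl : R.length = 6) {i w : G} (hi : i ∈ Q) (hpi : p i = n)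
    (hw : Acts z Q p w R) {k : Nat} (hk : k < 24) (h0 : (cd k).2.2 = 0) :
    fv z i w k ∈ Q ∧ p (fv z i w k) = ptab R n (cd k).2.1 := by
  obtain ⟨hm, hp⟩ := S.unit_data hl hi hpi hw _ (code_facts k hk).1
  rw [fv, h0, pow_zero, mul_one]
  exact ⟨Q.mul_mem (S.sys.sg_mem _) hm, by rw [S.sys.map_mul _ (S.sys.sg_mem _) _ hm, hp, S.sys.p_sg, Nat.zero_xor]⟩

/-- the product of the two factors -/
theorem exists_fac : ∃ φ, Fac z Q p y φ := by
  have hff := factor_facts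
  simp only [Bool.and_eq_true] at hff
  obtain ⟨i₂, w₂, R₂, hi₂, hp₂, hiy₂, hw₂, hwy₂⟩ := S.exists_factor hff.1
  obtain ⟨i₃, w₃, R₃, hi₃, hp₃, hiy₃, hw₃, hwy₃⟩ := S.exists_factor hff.2
  obtain ⟨hf3, hf7, hf11, hb37, hcomm, hperp, h13, h11⟩ := pair_facts
  obtain ⟨hptab, hcore, hlt⟩ := perp_facts
  have hpl : ∀ R ∈ [rTwo, rThree], R.length = 6 ∧ ∀ m < 3, comp one (pwR R m) = pwR R m ∧ (pwR R m).length = 6 := by
    decide +kernel
  have hl₂ := hpl rTwo (by simp)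
  have hl₃ := hpl rThree (by simp)
  have hi23 : Commute i₂ i₃ := (S.sys.commute_iff hi₂ hi₃).2 (by rw [hp₂, hp₃, hb37])
  have hi2w3 : Commute i₂ w₃ := (commute_of_fix S.sys R₃.www hw₃ hi₂ (by rw [hp₂, hf3])).symm
  have hw2i3 : Commute w₂ i₃ := commute_of_fix S.sys R₂.www hw₂ hi₃ (by rw [hp₃, hf7])
  have hw23 : Commute w₂ w₃ := by
    have hq : w₂ * w₃ * w₂⁻¹ * w₃⁻¹ ∈ Q := by
      have h1 : Acts z Q p (w₂ * w₃ * w₂⁻¹) rThree := S.sys.acts_conj hl₂.1 hl₃.1 hl₃.1 hw₂ hw₃ hcomm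
      have h2 := S.sys.inv_mul_mem hw₃ h1
      have := S.sys.large.conj_mem hw₃.1 h2
      rwa [show w₃ * (w₃⁻¹ * (w₂ * w₃ * w₂⁻¹)) * w₃⁻¹ = w₂ * w₃ * w₂⁻¹ * w₃⁻¹ by group] at this
    set q := w₂ * w₃ * w₂⁻¹ * w₃⁻¹ with hqdef
    have hcomm2 : ∀ a, (w₃ * a = a * w₃) → (w₃ * (w₂⁻¹ * a * w₂) = w₂⁻¹ * a * w₂ * w₃) → Commute q a := by
      intro a h1 h2
      show q * a = a * q
      calc q * a = w₂ * w₃ * w₂⁻¹ * (w₃⁻¹ * a) := by rw [hqdef]; group
        _ = w₂ * w₃ * w₂⁻¹ * (a * w₃⁻¹) := by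
          rw [(Commute.inv_left (show Commute w₃ a from h1)).eq]
        _ = w₂ * (w₃ * (w₂⁻¹ * a * w₂)) * w₂⁻¹ * w₃⁻¹ := by group
        _ = _ := by rw [h2, hqdef]; group
    have hu2 : ∀ t, Commute w₃ (unit i₂ w₂ t) → Commute w₃ (w₂⁻¹ * unit i₂ w₂ t * w₂) →
        Commute q (unit i₂ w₂ t) := fun t a b => hcomm2 _ a.eq b.eq
    have hj2 : Commute w₃ (w₂ * i₂ * w₂⁻¹) :=
      commute_of_fix S.sys R₃.www hw₃ (S.sys.large.conj_mem hw₂.1 hi₂) (by
        rw [hw₂.2 i₂ hi₂, hp₂, h13]; decide +kernel)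
    have hk2 : Commute w₃ (w₂⁻¹ * i₂ * w₂) := by
      have hm : w₂⁻¹ * i₂ * w₂⁻¹⁻¹ ∈ Q := S.sys.large.conj_mem hw₂.1.inv_left hi₂
      rw [inv_inv] at hm
      refine commute_of_fix S.sys R₃.www hw₃ hm ?_
      have e : w₂⁻¹ = w₂ * w₂ := inv_eq_of_mul_eq_one_right (by rw [← mul_assoc, R₂.www])
      have hk := S.sys.large.conj_mem hw₂.1 (S.sys.large.conj_mem hw₂.1 hi₂)
      rw [show w₂⁻¹ * i₂ * w₂ = w₂ * (w₂ * i₂ * w₂⁻¹) * w₂⁻¹ by
          calc w₂⁻¹ * i₂ * w₂ = w₂⁻¹ * i₂ * w₂⁻¹⁻¹ := by rw [inv_inv]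
            _ = w₂ * w₂ * i₂ * (w₂ * w₂)⁻¹ := by rw [e]
            _ = _ := by group,
        hw₂.2 _ (S.sys.large.conj_mem hw₂.1 hi₂), hw₂.2 i₂ hi₂, hp₂]
      decide +kernel
    have c1 : Commute q i₂ := hcomm2 i₂ hi2w3.symm.eq hk2.eq
    have c2 : Commute q (w₂ * i₂ * w₂⁻¹) := hcomm2 _ hj2.eq (by
      rw [show w₂⁻¹ * (w₂ * i₂ * w₂⁻¹) * w₂ = i₂ by group]; exact hi2w3.symm.eq)
    have hw23i : ∀ a, Commute w₂ a → Commute w₂ (w₃ * a * w₃⁻¹) → Commute q (w₃ * a * w₃⁻¹) := by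
      intro a h1 h2
      show q * (w₃ * a * w₃⁻¹) = w₃ * a * w₃⁻¹ * q
      calc q * (w₃ * a * w₃⁻¹) = w₂ * w₃ * (w₂⁻¹ * a) * w₃⁻¹ := by rw [hqdef]; group
        _ = w₂ * (w₃ * a * w₃⁻¹) * (w₃ * w₂⁻¹ * w₃⁻¹) := by rw [h1.inv_left.eq]; group
        _ = _ := by rw [h2.eq, hqdef]; group
    have hj3 : Commute w₂ (w₃ * i₃ * w₃⁻¹) :=
      commute_of_fix S.sys R₂.www hw₂ (S.sys.large.conj_mem hw₃.1 hi₃) (by rw [hw₃.2 i₃ hi₃, hp₃, h11, hf11])
    have hk3 : Commute w₂ (w₃⁻¹ * i₃ * w₃) := by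
      have hm : w₃⁻¹ * i₃ * w₃⁻¹⁻¹ ∈ Q := S.sys.large.conj_mem hw₃.1.inv_left hi₃
      rw [inv_inv] at hm
      refine commute_of_fix S.sys R₂.www hw₂ hm ?_
      have e : w₃⁻¹ = w₃ * w₃ := inv_eq_of_mul_eq_one_right (by rw [← mul_assoc, R₃.www])
      rw [show w₃⁻¹ * i₃ * w₃ = w₃ * (w₃ * i₃ * w₃⁻¹) * w₃⁻¹ by
          calc w₃⁻¹ * i₃ * w₃ = w₃⁻¹ * i₃ * w₃⁻¹⁻¹ := by rw [inv_inv]
            _ = w₃ * w₃ * i₃ * (w₃ * w₃)⁻¹ := by rw [e]
            _ = _ := by group,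
        hw₃.2 _ (S.sys.large.conj_mem hw₃.1 hi₃), hw₃.2 i₃ hi₃, hp₃]
      decide +kernel
    have c3 : Commute q i₃ := by
      have := hw23i (w₃⁻¹ * i₃ * w₃) hk3 (by
        rw [show w₃ * (w₃⁻¹ * i₃ * w₃) * w₃⁻¹ = i₃ by group]; exact hw2i3)
      rwa [show w₃ * (w₃⁻¹ * i₃ * w₃) * w₃⁻¹ = i₃ by group] at this
    have c4 : Commute q (w₃ * i₃ * w₃⁻¹) := hw23i i₃ hw2i3 hj3
    have h16 : p q < 16 :=
      (S.mem_core_iff hq).1 (((hwy₂.mul_left hwy₃).mul_left hwy₂.inv_left).mul_left hwy₃.inv_left).symm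
    have hp0 : p q = 0 := by
      refine hperp _ h16 ?_ ?_ ?_ ?_
      · rw [← hp₂]; exact (S.sys.commute_iff hq hi₂).1 c1
      · rw [← h13, ← hp₂, ← hw₂.2 i₂ hi₂]; exact (S.sys.commute_iff hq (S.sys.large.conj_mem hw₂.1 hi₂)).1 c2
      · rw [← hp₃]; exact (S.sys.commute_iff hq hi₃).1 c3
      · rw [← h11, ← hp₃, ← hw₃.2 i₃ hi₃]; exact (S.sys.commute_iff hq (S.sys.large.conj_mem hw₃.1 hi₃)).1 c4
    rcases S.sys.ker _ hq hp0 with e | e
    · exact mul_inv_eq_iff_eq_mul.1 (mul_inv_eq_one.1 e)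
    · exfalso
      have hcz : Commute z w₃ := hw₃.1.symm
      have e1 : w₂ * w₃ * w₂⁻¹ = z * w₃ := by rw [← e, hqdef]; group
      have e3 : (z * w₃) * (z * w₃) * (z * w₃) = 1 := by
        rw [← e1, show w₂ * w₃ * w₂⁻¹ * (w₂ * w₃ * w₂⁻¹) * (w₂ * w₃ * w₂⁻¹) = w₂ * (w₃ * w₃ * w₃) * w₂⁻¹ by group,
          R₃.www]
        group
      refine S.sys.large.z_ne_one ?_
      calc z = z * (z * z) * (w₃ * w₃ * w₃) := by rw [R₃.www, S.sys.large.mul_self_z, mul_one, mul_one]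
        _ = (z * w₃) * (z * w₃) * (z * w₃) := by
          simp only [mul_assoc]
          rw [← hcz.left_comm, ← hcz.left_comm, ← hcz.left_comm]
        _ = 1 := e3
  have hcg : ∀ k l, Commute (fv z i₂ w₂ k) (fv z i₃ w₃ l) := fun k l => by
    have a : Commute i₃ (fv z i₂ w₂ k) := R₂.commute_fv R₃.iz hi23.symm hw2i3.symm k
    have b : Commute w₃ (fv z i₂ w₂ k) := R₂.commute_fv R₃.wz hi2w3.symm hw23.symm k
    have c : Commute (fv z i₂ w₂ k) z := (R₂.commute_fv (Commute.refl z) R₂.iz.symm R₂.wz.symm k).symm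
    exact R₃.commute_fv c a.symm b.symm l
  obtain ⟨f₂, hf₂⟩ := R₂.exists_hom
  obtain ⟨f₃, hf₃⟩ := R₃.exists_hom
  have hc : ∀ a b, Commute (f₂ a) (f₃ b) := fun a b => by
    obtain ⟨k, hk, rfl⟩ := UFourThree.exists_sl a
    obtain ⟨l, hl, rfl⟩ := UFourThree.exists_sl b
    rw [hf₂ k hk, hf₃ l hl]
    exact hcg k l
  obtain ⟨φ, hφ⟩ : ∃ φ : SL23 × SL23 →* G, ∀ k l, k < 24 → l < 24 →
      φ (sl k, sl l) = fv z i₂ w₂ k * fv z i₃ w₃ l :=
    ⟨f₂.noncommCoprod f₃ hc, fun k l hk hl => by rw [← hf₂ k hk, ← hf₃ l hl]; rfl⟩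
  have hsplit : ∀ x : SL23 × SL23, ∃ k l, k < 24 ∧ l < 24 ∧ x = (sl k, sl l) ∧
      φ x = fv z i₂ w₂ k * fv z i₃ w₃ l := by
    rintro ⟨a, b⟩
    obtain ⟨k, hk, rfl⟩ := UFourThree.exists_sl a
    obtain ⟨l, hl, rfl⟩ := UFourThree.exists_sl b
    exact ⟨k, l, hk, hl, rfl, hφ k l hk hl⟩
  have hz2 : φ (1, -1) = z := by
    rw [show ((1, -1) : SL23 × SL23) = (sl 0, sl 12) by rw [UFourThree.sl_zero, UFourThree.sl_twelve], hφ 0 12 (by norm_num) (by norm_num), R₂.fv_zero, R₃.fv_twelve,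
      one_mul]
  have hz1 : φ (-1, 1) = z := by
    rw [show ((-1, 1) : SL23 × SL23) = (sl 12, sl 0) by rw [UFourThree.sl_zero, UFourThree.sl_twelve], hφ 12 0 (by norm_num) (by norm_num), R₃.fv_zero, R₂.fv_twelve,
      mul_one]
  have hfy : ∀ {i w : G}, Rel z i w → Commute i y → Commute w y → ∀ k, Commute (fv z i w k) y :=
    fun R hiy hwy k => (R.commute_fv S.act.1 hiy.symm hwy.symm k).symm
  have hfz : ∀ {i w : G}, Rel z i w → ∀ k, Commute (fv z i w k) z :=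
    fun R k => (R.commute_fv (Commute.refl z) R.iz.symm R.wz.symm k).symm
  have hacts : ∀ k l, k < 24 → l < 24 → Acts z Q p (fv z i₂ w₂ k * fv z i₃ w₃ l)
      (comp (pwR rTwo (cd k).2.2) (pwR rThree (cd l).2.2)) := fun k l hk hl =>
    S.sys.acts_mul (hl₃.2 _ (code_facts l hl).2.1).2 (S.fv_acts hl₂.1 hl₂.2 hi₂ hp₂ hw₂ hk)
      (S.fv_acts hl₃.1 hl₃.2 hi₃ hp₃ hw₃ hl)
  refine ⟨φ, ?_⟩
  refine ⟨hz2, hz1, ?_, ?_, ?_, ?_, ?_, ?_, ?_, ?_, ?_⟩
  · rw [show ((-1, -1) : SL23 × SL23) = (-1, 1) * (1, -1) by simp, map_mul, hz1, hz2, S.sys.large.mul_self_z]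
  · intro x
    obtain ⟨k, l, -, -, -, e⟩ := hsplit x
    rw [e]
    exact (hfz R₂ k).mul_left (hfz R₃ l)
  · intro x
    obtain ⟨k, l, -, -, -, e⟩ := hsplit x
    rw [e]
    exact (hfy R₂ hiy₂ hwy₂ k).mul_left (hfy R₃ hiy₃ hwy₃ l)
  · intro x n hn
    obtain ⟨k, l, hk, hl, rfl, e⟩ := hsplit x
    rw [hn] at e
    obtain ⟨htk, hmk, -, -, -, h0k⟩ := code_facts k hk
    obtain ⟨htl, hml, -, -, -, h0l⟩ := code_facts l hl
    have hy := S.acts_pow_y n
    have hlen : ∀ m < 3, (pwR rOne m).length = 6 := by decide +kernel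
    have hu : comp (pwR rTwo (cd k).2.2) (pwR rThree (cd l).2.2) = pwR rOne (n % 3) := by
      refine S.sys.acts_unique (by rw [length_comp]; exact (hl₃.2 _ hml).2) (hlen _ (Nat.mod_lt _ (by norm_num)))
        (e ▸ hacts k l hk hl) ?_
      rwa [show pwR rOne (n % 3) = pwR rOne n by rw [pwR, pwR, Nat.mod_mod]]
    obtain ⟨hk0, hl0, hn0⟩ := nine_facts hmk hml (Nat.mod_lt _ (by norm_num)) hu
    have hy1 : y ^ n = 1 := by
      rw [← Nat.div_add_mod n 3, hn0, add_zero, pow_mul, pow_succ, pow_two, S.cube, one_pow]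
    obtain ⟨mk, pk⟩ := S.fv_core hl₂.1 hi₂ hp₂ hw₂ hk hk0
    obtain ⟨ml, pl⟩ := S.fv_core hl₃.1 hi₃ hp₃ hw₃ hl hl0
    have h0 : ptab rTwo 3 (cd k).2.1 ^^^ ptab rThree 7 (cd l).2.1 = 0 := by
      rw [← pk, ← pl, ← S.sys.map_mul _ mk _ ml, ← e, hy1, S.sys.p_one]
    obtain ⟨htk0, htl0⟩ := hptab _ htk _ htl h0
    rw [hy1] at hn
    rcases h0k htk0 hk0 with rfl | rfl <;> rcases h0l htl0 hl0 with rfl | rfl <;>
      simp only [UFourThree.sl_zero, UFourThree.sl_twelve] at hn ⊢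
    · exact Or.inl rfl
    · exact absurd (hz2.symm.trans hn) S.sys.large.z_ne_one
    · exact absurd (hz1.symm.trans hn) S.sys.large.z_ne_one
    · exact Or.inr trivial
  · intro x
    obtain ⟨k, l, hk, hl, -, e⟩ := hsplit x
    exact ⟨_, List.contains_iff_mem.1 (nine_comp _ (code_facts k hk).2.1 _ (code_facts l hl).2.1), e ▸ hacts k l hk hl⟩
  · intro c N hN hc hcy
    have hsp := List.all_eq_true.1 nine_split N hN
    simp only [List.any_eq_true, List.mem_range, beq_iff_eq] at hsp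
    obtain ⟨a, ha, b, hb, rfl⟩ := hsp
    obtain ⟨k, hk, hck⟩ := code_onto 0 (by norm_num) a ha
    obtain ⟨l, hl, hcl⟩ := code_onto 0 (by norm_num) b hb
    have hd : Acts z Q p (φ (sl k, sl l)) (comp (pwR rTwo a) (pwR rThree b)) := by
      have := hacts k l hk hl
      rwa [hck, hcl, ← hφ k l hk hl] at this
    set r := (φ (sl k, sl l))⁻¹ * c with hr
    have hrQ : r ∈ Q := S.sys.inv_mul_mem hd hc
    have hdy : Commute (φ (sl k, sl l)) y := by
      rw [hφ k l hk hl]; exact (hfy R₂ hiy₂ hwy₂ k).mul_left (hfy R₃ hiy₃ hwy₃ l)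
    have h16 := (S.mem_core_iff hrQ).1 (hdy.inv_left.mul_left hcy).symm
    obtain ⟨t, ht, u, hu, htu⟩ := hcore _ h16
    obtain ⟨k', hk', hck'⟩ := code_onto t ht 0 (by norm_num)
    obtain ⟨l', hl', hcl'⟩ := code_onto u hu 0 (by norm_num)
    obtain ⟨mk, pk⟩ := S.fv_core hl₂.1 hi₂ hp₂ hw₂ hk' (by rw [hck'])
    obtain ⟨ml, pl⟩ := S.fv_core hl₃.1 hi₃ hp₃ hw₃ hl' (by rw [hcl'])
    obtain ⟨s, hs⟩ := S.sys.eq_of_p (Q.mul_mem mk ml) hrQ (by
      rw [S.sys.map_mul _ mk _ ml, pk, pl, hck', hcl', htu])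
    refine ⟨(sl k, sl l) * ((sl k', sl l') * bif s then (1, -1) else 1), ?_⟩
    rw [map_mul, map_mul, hφ k' l' hk' hl', show φ (bif s then (1, -1) else 1) = sg z s by
        cases s
        · exact map_one φ
        · exact hz2, ← hs, hr, mul_inv_cancel_left]
  · intro x hx1 hx2
    obtain ⟨k, l, hk, hl, rfl, e⟩ := hsplit x
    rw [e]
    exact Q.mul_mem (S.fv_core hl₂.1 hi₂ hp₂ hw₂ hk ((code_facts k hk).2.2.2.2.1 ((UFourThree.sl_pow4 hk).1 hx1))).1
      (S.fv_core hl₃.1 hi₃ hp₃ hw₃ hl ((code_facts l hl).2.2.2.2.1 ((UFourThree.sl_pow4 hl).1 hx2))).1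
  · intro k l hk hl hk0 hl0
    obtain ⟨mk, pk⟩ := S.fv_core hl₂.1 hi₂ hp₂ hw₂ hk hk0
    obtain ⟨ml, pl⟩ := S.fv_core hl₃.1 hi₃ hp₃ hw₃ hl hl0
    rw [hφ k l hk hl]
    exact ⟨Q.mul_mem mk ml, by rw [S.sys.map_mul _ mk _ ml, pk, pl]⟩
  · rw [← UFourThree.sl_zero, hφ 3 0 (by norm_num) (by norm_num), R₃.fv_zero, mul_one]
    have := S.fv_acts hl₂.1 hl₂.2 hi₂ hp₂ hw₂ (k := 3) (by norm_num)
    exact this

end Std

end CfsgLib.Recog.SuzThree
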