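import Cfsg.Agent.Lib.Recog.SuzThree.Classify

set_option autoImplicit false
set_option linter.unusedSectionVars false
set_option maxRecDepth 100000

/-!
An element fusing the central involution inside the centraliser of the element of order three (owner: helper22).
-/

namespace CfsgLib.Recog.SuzThree

open CfsgLib.LocalEvenB.SuzType CfsgLib.ThreeTrans

variable {G : Type*} [Group G] [Finite G] {z : G} {Q : Subgroup G} {p : G → Nat}

theorem xor_tri (a b c : Nat) : (a ^^^ b) ^^^ (b ^^^ c) ^^^ (c ^^^ a) = 0 := by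
  rw [show (a ^^^ b) ^^^ (b ^^^ c) = a ^^^ c by rw [Nat.xor_assoc, ← Nat.xor_assoc b b c, Nat.xor_self, Nat.zero_xor],
    Nat.xor_assoc, ← Nat.xor_assoc c c a, Nat.xor_self, Nat.zero_xor, Nat.xor_self]

/-- an element fixing three independent vectors moves only inside a line -/
theorem moved_four (h : Sys z Q p) {R : List Nat} (hR : Iso R) (hR3 : comp R (comp R R) = one) {y' : G}
    (hRy : Acts z Q p y' R) (hy'3 : y' * y' * y' = 1) (hy'ne : y' ≠ 1) (hf0 : app R 1 = 1) {n₁ n₂ : Nat}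
    (hn₁ : n₁ < 64) (hn₂ : n₂ < 64) (hf₁ : app R n₁ = n₁) (hf₂ : app R n₂ = n₂) (hb₁ : bb n₁ 1 = false)
    (hb₂ : bb n₂ 1 = false) (hz₁ : n₁ &&& 60 ≠ 0) (hz₂ : n₂ &&& 60 ≠ 0) (h12 : n₁ &&& 60 ≠ n₂ &&& 60) :
    ∃ u v, ∀ n < 64, n ^^^ app R n ∈ [0, u, v, u ^^^ v] := by
  classical
  have hcube : ∀ n < 64, app R (app R (app R n)) = n := fun n hn => by
    have := app_comp (A := R) (B := comp R R) (by rw [length_comp, hR.1]) n
    rw [hR3, app_one n hn, app_comp hR.1] at this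
    exact this.symm
  -- the moved part
  let I : Finset Nat := (Finset.range 64).image fun n => n ^^^ app R n
  have hI : ∀ u ∈ I, u < 64 ∧ app R u ∈ I ∧ (app R u = u → u = 0) ∧
      ∀ f < 64, app R f = f → bb u f = false := by
    intro u hu
    obtain ⟨n, hn, rfl⟩ := Finset.mem_image.1 hu
    rw [Finset.mem_range] at hn
    refine ⟨Nat.xor_lt_two_pow (n := 6) hn (hR.2 n hn).1, ?_, ?_, ?_⟩
    · exact Finset.mem_image.2 ⟨app R n, Finset.mem_range.2 (hR.2 n hn).1, (app_xor _ _ _).symm⟩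
    · intro e
      have e2 : app R (app R (n ^^^ app R n)) = n ^^^ app R n := by rw [e, e]
      have hs : (n ^^^ app R n) ^^^ app R (n ^^^ app R n) ^^^ app R (app R (n ^^^ app R n)) = 0 := by
        rw [app_xor, app_xor, hcube n hn]
        exact xor_tri _ _ _
      rw [e, e, Nat.xor_self, Nat.zero_xor] at hs
      exact hs
    · intro f hf hff
      have h1 := (hR.2 (n ^^^ f) (Nat.xor_lt_two_pow (n := 6) hn hf)).2
      rw [app_xor, hff] at h1
      rw [bb_xor_left]
      simp only [bb, h1, (hR.2 n hn).2, Bool.xor_self]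
  have hIx : ∀ u ∈ I, ∀ v ∈ I, u ^^^ v ∈ I := by
    intro u hu v hv
    obtain ⟨n, hn, rfl⟩ := Finset.mem_image.1 hu
    obtain ⟨m, hm, rfl⟩ := Finset.mem_image.1 hv
    rw [Finset.mem_range] at hn hm
    exact Finset.mem_image.2 ⟨n ^^^ m, Finset.mem_range.2 (Nat.xor_lt_two_pow (n := 6) hn hm), by
      rw [app_xor]; ac_rfl⟩
  have hb : ∀ u ∈ I, bb u 1 = false := fun u hu => (hI u hu).2.2.2 1 (by norm_num) hf0
  have hIcard : I.card ≤ 4 := by
    have hsect := List.all_eq_true.1 (List.all_eq_true.1 sect_pair _ (reduce_mem n₁ hn₁)) _ (reduce_mem n₂ hn₂)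
    simp only [Bool.or_eq_true, beq_iff_eq, hz₁, hz₂, h12, false_or, decide_eq_true_eq] at hsect
    refine le_trans (Finset.card_le_card_of_injOn (fun u => u &&& 60)
      (t := (sect.filter fun u => !(bb u (n₁ &&& 60)) && !(bb u (n₂ &&& 60))).toFinset) ?_ ?_)
      (le_trans (List.toFinset_card_le _) hsect)
    · intro u hu
      rw [Finset.mem_coe] at hu
      simp only [Finset.mem_coe, List.mem_toFinset, List.mem_filter, Bool.and_eq_true, Bool.not_eq_true']
      refine ⟨reduce_mem u (hI u hu).1, ?_, ?_⟩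
      · have := List.all_eq_true.1 (List.all_eq_true.1 reduce_bb u (List.mem_range.2 (hI u hu).1)) n₁
          (List.mem_range.2 hn₁)
        simp only [hb u hu, hb₁, Bool.false_or, beq_iff_eq] at this
        rw [this]
        exact (hI u hu).2.2.2 n₁ hn₁ hf₁
      · have := List.all_eq_true.1 (List.all_eq_true.1 reduce_bb u (List.mem_range.2 (hI u hu).1)) n₂
          (List.mem_range.2 hn₂)
        simp only [hb u hu, hb₂, Bool.false_or, beq_iff_eq] at this
        rw [this]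
        exact (hI u hu).2.2.2 n₂ hn₂ hf₂
    · intro u hu v hv e
      rw [Finset.mem_coe] at hu hv
      have hw := hIx u hu v hv
      obtain ⟨hw64, -, hwfix, -⟩ := hI _ hw
      have h60 : (u ^^^ v) &&& 60 = 0 := by
        rw [Nat.and_xor_distrib_right]; simp only at e; rw [e, Nat.xor_self]
      refine Nat.xor_eq_zero_iff.1 (hwfix ?_)
      rcases reduce_perp _ hw64 (hb _ hw) with e1 | e1 <;> rw [h60] at e1 <;> rw [e1]
      · exact app_zero R
      · rw [Nat.zero_xor]; exact hf0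
  obtain ⟨u, hu, hu0⟩ : ∃ u ∈ I, u ≠ 0 := by
    by_contra hne
    push Not at hne
    refine hy'ne (eq_one_of_acts h hy'3 ?_)
    rwa [show R = one from eq_of_app hR.1 rfl fun n hn => by
      have hn64 : n < 64 := by revert n; decide
      rw [app_one n hn64]
      exact (Nat.xor_eq_zero_iff.1 (hne _ (Finset.mem_image.2 ⟨n, Finset.mem_range.2 hn64, rfl⟩))).symm] at hRy
  obtain ⟨hu64, hvI, hufix, -⟩ := hI u hu
  have huv : u ≠ app R u := fun e => hu0 (hufix e.symm)
  have hv0 : app R u ≠ 0 := fun e => hu0 (by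
    have := hcube u hu64
    rw [e, app_zero, app_zero] at this
    exact this.symm)
  have h0I : 0 ∈ I := by simpa using hIx u hu u hu
  have hsubI : ({0, u, app R u, u ^^^ app R u} : Finset Nat) = I := by
    refine Finset.eq_of_subset_of_card_le ?_ ?_
    · intro a ha
      simp only [Finset.mem_insert, Finset.mem_singleton] at ha
      rcases ha with rfl | rfl | rfl | rfl
      exacts [h0I, hu, hvI, hIx u hu _ hvI]
    · refine le_trans hIcard (le_of_eq ?_)
      rw [Finset.card_insert_of_notMem, Finset.card_insert_of_notMem, Finset.card_insert_of_notMem,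
        Finset.card_singleton]
      · simp only [Finset.mem_singleton]
        intro e
        apply hu0
        calc u = (u ^^^ app R u) ^^^ app R u := by rw [Nat.xor_assoc, Nat.xor_self, Nat.xor_zero]
          _ = 0 := by rw [← e, Nat.xor_self]
      · simp [huv, Nat.xor_eq_zero_iff, hv0, eq_comm (a := u)]
      · simp [hu0.symm, hv0.symm, Ne.symm (mt Nat.xor_eq_zero_iff.1 huv)]
  refine ⟨u, app R u, fun n hn => ?_⟩
  have : n ^^^ app R n ∈ I := Finset.mem_image.2 ⟨n, Finset.mem_range.2 hn, rfl⟩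
  rw [← hsubI] at this
  simpa using this

/-- A frame for given coordinates. -/
theorem exists_frame (h : Sys z Q p) (hn : ∃ g : G, g * z * g⁻¹ ∈ Q ∧ g * z * g⁻¹ ≠ z) : ∃ k, Frame z Q p k := by
  obtain ⟨g, hgQ, hgz⟩ := hn
  have hzz := h.large.mul_self_z
  obtain ⟨c, hc, hpc⟩ := h.to_one hgQ (conj_sq_one hzz g)
    (fun e => h.large.z_ne_one (conj_eq_one_iff.1 e)) hgz
  set k1 := c * g with hk1
  have e1 : c * (g * z * g⁻¹) * c⁻¹ = k1 * z * k1⁻¹ := by rw [hk1]; group
  rw [e1] at hpc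
  have hx : k1 * z * k1⁻¹ ∈ Q := e1 ▸ h.large.conj_mem hc hgQ
  have hy : k1⁻¹ * z * k1 ∈ Q := mem_conjMap.1 (h.large.mem_conj (by rw [h.card]; norm_num) hx)
  obtain ⟨d, hd, hpd⟩ := h.to_one hy
    (by
      have := conj_sq_one hzz k1⁻¹
      rwa [inv_inv] at this)
    (fun e => h.large.z_ne_one (by
      calc z = k1 * (k1⁻¹ * z * k1) * k1⁻¹ := by group
        _ = 1 := by rw [e]; group))
    (fun e => zero_ne_one (α := ℕ) (by
      rw [← hpc, show k1 * z * k1⁻¹ = k1 * (k1⁻¹ * z * k1) * k1⁻¹ by rw [e],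
        show k1 * (k1⁻¹ * z * k1) * k1⁻¹ = z by group, h.z0]))
  have e2 : k1 * d⁻¹ * z * (k1 * d⁻¹)⁻¹ = k1 * z * k1⁻¹ := by
    rw [show k1 * d⁻¹ * z * (k1 * d⁻¹)⁻¹ = k1 * (d⁻¹ * z * d) * k1⁻¹ by group,
      hd.inv_left.eq, inv_mul_cancel_right]
  have e3 : (k1 * d⁻¹)⁻¹ * z * (k1 * d⁻¹) = d * (k1⁻¹ * z * k1) * d⁻¹ := by group
  refine ⟨k1 * d⁻¹, h, ?_, ?_, ?_, ?_⟩
  · rw [e2]; exact hx
  · rw [e3]; exact h.large.conj_mem hd hy
  · rw [e2]; exact hpc
  · rw [e3]; exact hpd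

/-- A standard element of order three. -/
structure Std (z : G) (Q : Subgroup G) (p : G → Nat) (y : G) : Prop where
  sys : Sys z Q p
  cube : y * y * y = 1
  act : Acts z Q p y rOne

theorem conj_cube {x : G} (hx : x * x * x = 1) (c : G) : c * x * c⁻¹ * (c * x * c⁻¹) * (c * x * c⁻¹) = 1 := by
  calc c * x * c⁻¹ * (c * x * c⁻¹) * (c * x * c⁻¹) = c * (x * x * x) * c⁻¹ := by group
    _ = 1 := by rw [hx]; group

theorem sq_cube {x : G} (hx : x * x * x = 1) : x * x * (x * x) * (x * x) = 1 := by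
  calc x * x * (x * x) * (x * x) = x * x * x * (x * x * x) := by group
    _ = 1 := by rw [hx, mul_one]

namespace Std

variable {y : G} (S : Std z Q p y)
include S

theorem y_ne : y ≠ 1 := fun e => by
  have h1 := S.sys.acts_unique (A := rOne) (B := one) rfl rfl S.act (e ▸ S.sys.acts_one)
  exact absurd h1 (by decide +kernel)

theorem act_sq : Acts z Q p (y * y) rOneInv := S.sys.acts_mul rfl S.act S.act

/-- lifting a word that conjugates the first rotation -/
theorem exists_conj {A R : List Nat} (w : List Nat) (hA : A = wmap w) (hlR : R.length = 6)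
    (hR3 : comp R (comp R R) = one) (hAR : comp A rOne = comp R A) {x : G} (hx : x * x * x = 1) (hxR : Acts z Q p x R) :
    ∃ c, Acts z Q p c A ∧ c * y * c⁻¹ = x := by
  obtain ⟨hl, c, hc⟩ := S.sys.acts_word w
  rw [← hA] at hl hc
  obtain ⟨q, -, he, hqc, -⟩ := conj_to S.sys (R := rOne) rfl hlR hR3 hl hAR S.cube hx hc S.act hxR
  exact ⟨_, hqc, he⟩

/-- an element inverting it -/
theorem exists_inverter : ∃ d, Acts z Q p d dMap ∧ d * y * d⁻¹ = y * y := by
  have h := dMap_facts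
  simp only [Bool.and_eq_true, beq_iff_eq] at h
  exact S.exists_conj dWord map_words.1 rfl (by decide +kernel) h.1 (sq_cube S.cube) S.act_sq

/-- the fusing element -/
theorem exists_swap (hn : ∃ g : G, g * z * g⁻¹ ∈ Q ∧ g * z * g⁻¹ ≠ z) :
    ∃ g, Commute y g ∧ g * z * g⁻¹ ∈ Q ∧ g * z * g⁻¹ ≠ z ∧ g⁻¹ * z * g ∈ Q ∧
      ∀ a ∈ Q, g⁻¹ * a * g ∈ Q → ∃ i j, a = sg z i * sg (g * z * g⁻¹) j := by
  classical
  obtain ⟨k, F⟩ := exists_frame S.sys hn
  set X := k * z * k⁻¹ with hX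
  have hyX : Commute y X := commute_of_fix S.sys S.cube S.act F.memQ (by rw [F.px]; decide +kernel)
  set y' := k⁻¹ * y * k with hy'
  have hy'3 : y' * y' * y' = 1 := by
    have := conj_cube S.cube k⁻¹
    rwa [inv_inv] at this
  have hy'ne : y' ≠ 1 := fun e => S.y_ne (by
    calc y = k * y' * k⁻¹ := by rw [hy']; group
      _ = 1 := by rw [e]; group)
  have hy'z : Commute y' z := by
    show y' * z = z * y'
    calc y' * z = k⁻¹ * (y * X) * k := by rw [hy', hX]; group
      _ = _ := by rw [hyX.eq, hy', hX]; group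
  obtain ⟨R, hR, hRy⟩ := S.sys.exists_acts hy'z
  obtain ⟨-, hR3⟩ := acts_data S.sys hR.1 hRy hy'3
  -- elements of the conjugate group centralised by the element
  have hs : ∀ v ∈ [4, 8], ∃ s ∈ Q.map (MulAut.conj k).toMonoidHom, Commute s z ∧ Acts z Q p s (rho v) ∧ Commute y s := by
    intro v hv
    have hvs : v ∈ sect ∧ comp rOne (rho v) = comp (rho v) rOne := by revert v; decide +kernel
    obtain ⟨s, hsP, hsz, hsA⟩ := F.exists_s hvs.1
    refine ⟨s, hsP, hsz, hsA, ?_⟩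
    have hys : y * s * y⁻¹ ∈ Q.map (MulAut.conj k).toMonoidHom := F.sys'.large.conj_mem hyX hsP
    have hact : Acts z Q p (y * s * y⁻¹) (rho v) :=
      S.sys.acts_conj rfl (F.rho_len v) (F.rho_len v) S.act hsA hvs.2
    obtain ⟨i, j, e⟩ := F.inter (S.sys.inv_mul_mem hsA hact) (Subgroup.mul_mem _ (Subgroup.inv_mem _ hsP) hys)
    have hye : Commute y (sg z i * sg X j) := F.pair_comm S.act.1 hyX i j
    have hse : Commute s (sg z i * sg X j) := F.pair_comm hsz (F.sys'.large.commute_z hsP) i j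
    have he2 : (sg z i * sg X j) * (sg z i * sg X j) = 1 := by
      rw [F.pair_mul, Bool.xor_self, Bool.xor_self]; simp [sg]
    have e1 : y * s * y⁻¹ = s * (sg z i * sg X j) := by rw [← e, mul_inv_cancel_left]
    have e2 : y * y * s * (y * y)⁻¹ = s := by
      calc y * y * s * (y * y)⁻¹ = y * (y * s * y⁻¹) * y⁻¹ := by group
        _ = y * (s * (sg z i * sg X j)) * y⁻¹ := by rw [e1]
        _ = y * s * y⁻¹ * (y * (sg z i * sg X j) * y⁻¹) := by group
        _ = _ := by rw [hye.eq, mul_inv_cancel_right, e1, mul_assoc, he2, mul_one]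
    have e3 : y * s * y⁻¹ = s := by
      calc y * s * y⁻¹ = y * (y * y * s * (y * y)⁻¹) * y⁻¹ := by rw [e2]
        _ = y * y * y * s * (y * y * y)⁻¹ := by group
        _ = s := by rw [S.cube]; group
    exact mul_inv_eq_iff_eq_mul.1 e3
  obtain ⟨s, hsP, hsz, hsA, hys⟩ := hs 4 (by simp)
  obtain ⟨t, htP, htz, htA, hyt⟩ := hs 8 (by simp)
  have hpoint : ∀ {s : G} {v : Nat}, s ∈ Q.map (MulAut.conj k).toMonoidHom → Commute s z → Acts z Q p s (rho v) →
      Commute y s → rho v ≠ one → ∃ n < 64, p (k⁻¹ * s * k) = n ∧ app R n = n ∧ bb n 1 = false ∧ n &&& 60 ≠ 0 := by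
    intro s v hsP hsz hsA hys hne
    have hm : k⁻¹ * s * k ∈ Q := mem_conjMap.1 hsP
    refine ⟨_, S.sys.lt _ hm, rfl, ?_, ?_, ?_⟩
    · rw [← hRy.2 _ hm]
      congr 1
      calc y' * (k⁻¹ * s * k) * y'⁻¹ = k⁻¹ * (y * s * y⁻¹) * k := by rw [hy']; group
        _ = _ := by rw [hys.eq, mul_inv_cancel_right]
    · rw [← F.pz]
      refine (S.sys.commute_iff hm F.memP).1 ?_
      show k⁻¹ * s * k * (k⁻¹ * z * k) = k⁻¹ * z * k * (k⁻¹ * s * k)
      calc k⁻¹ * s * k * (k⁻¹ * z * k) = k⁻¹ * (s * z) * k := by group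
        _ = _ := by rw [hsz.eq]; group
    · intro h60
      have hp1 : bb (p (k⁻¹ * s * k)) 1 = false := by
        rw [← F.pz]
        refine (S.sys.commute_iff hm F.memP).1 ?_
        show k⁻¹ * s * k * (k⁻¹ * z * k) = k⁻¹ * z * k * (k⁻¹ * s * k)
        calc k⁻¹ * s * k * (k⁻¹ * z * k) = k⁻¹ * (s * z) * k := by group
          _ = _ := by rw [hsz.eq]; group
      have hsQ : s ∈ Q := by
        rcases reduce_perp _ (S.sys.lt _ hm) hp1 with e | e <;> rw [h60] at e
        · rcases S.sys.ker _ hm e with e' | e'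
          · rw [show s = k * (k⁻¹ * s * k) * k⁻¹ by group, e', mul_one, mul_inv_cancel]; exact Q.one_mem
          · rw [show s = k * (k⁻¹ * s * k) * k⁻¹ by group, e']; exact F.memQ
        · rw [Nat.zero_xor] at e
          obtain ⟨i, e'⟩ := S.sys.eq_of_p F.memP hm (F.pz.trans e.symm)
          rw [show s = k * (k⁻¹ * s * k) * k⁻¹ by group, e',
            show k * (k⁻¹ * z * k * sg z i) * k⁻¹ = z * (k * sg z i * k⁻¹) by group]
          refine Q.mul_mem S.sys.large.z_mem ?_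
          cases i
          · simp [sg]
          · exact F.memQ
      exact hne (S.sys.acts_unique (F.rho_len v) rfl hsA (S.sys.acts_of_mem hsQ))
  obtain ⟨n₁, hn₁, hp₁, hf₁, hb₁, hz₁⟩ := hpoint hsP hsz hsA hys (by decide +kernel)
  obtain ⟨n₂, hn₂, hp₂, hf₂, hb₂, hz₂⟩ := hpoint htP htz htA hyt (by decide +kernel)
  obtain ⟨n₃, -, hp₃, -, -, hz₃⟩ := hpoint (v := 12) (Subgroup.mul_mem _ hsP htP) (hsz.mul_left htz)
    (by
      have := F.rho_mul (v := 4) (w := 8) (by decide +kernel) (by decide +kernel) hsA htA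
      exact this) (hys.mul_right hyt) (by decide +kernel)
  have h12 : n₁ &&& 60 ≠ n₂ &&& 60 := by
    intro e
    refine hz₃ ?_
    rw [← hp₃, show k⁻¹ * (s * t) * k = k⁻¹ * s * k * (k⁻¹ * t * k) by group,
      S.sys.map_mul _ (mem_conjMap.1 hsP) _ (mem_conjMap.1 htP), hp₁, hp₂, Nat.and_xor_distrib_right, e, Nat.xor_self]
  have hf0 : app R 1 = 1 := by
    rw [← F.pz, ← hRy.2 _ F.memP]
    congr 1
    calc y' * (k⁻¹ * z * k) * y'⁻¹ = k⁻¹ * (y * z * y⁻¹) * k := by rw [hy']; group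
      _ = _ := by rw [S.act.1.eq, mul_inv_cancel_right]
  obtain ⟨u, v, huv⟩ := moved_four S.sys hR hR3 hRy hy'3 hy'ne hf0 hn₁ hn₂ hf₁ hf₂ hb₁ hb₂ hz₁ hz₂ h12
  obtain ⟨c, hc, hcy⟩ := exists_standard S.sys hR.1 hRy hy'3 hy'ne (a := u) (b := v) huv
  -- adjust
  have hgoal : ∀ g, Commute y g → g * z * g⁻¹ = X → (∃ m, Commute m z ∧ g = k * m) →
      g * z * g⁻¹ ∈ Q ∧ g * z * g⁻¹ ≠ z ∧ g⁻¹ * z * g ∈ Q ∧
        ∀ a ∈ Q, g⁻¹ * a * g ∈ Q → ∃ i j, a = sg z i * sg (g * z * g⁻¹) j := by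
    rintro g - hgX ⟨m, hm, rfl⟩
    rw [hgX]
    refine ⟨F.memQ, F.x_ne_z, ?_, fun a ha ha' => F.inter ha (mem_conjMap.2 ?_)⟩
    · have := S.sys.large.conj_mem hm.inv_left F.memP
      rwa [show m⁻¹ * (k⁻¹ * z * k) * m⁻¹⁻¹ = (k * m)⁻¹ * z * (k * m) by group] at this
    · have := S.sys.large.conj_mem hm ha'
      rwa [show m * ((k * m)⁻¹ * a * (k * m)) * m⁻¹ = k⁻¹ * a * k by group] at this
  rcases hcy with hcy | hcy
  · obtain ⟨q, hq, he, -⟩ := coset_conj S.sys (R := rOne) rfl (by decide +kernel) (conj_cube hy'3 c) S.cube hcy S.act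
    have hqc : Commute (q * c) z := (S.sys.large.commute_z hq).mul_left hc
    set g := k * (q * c)⁻¹ with hg
    have hgy : Commute y g := by
      show y * g = g * y
      have : g * y * g⁻¹ = y := by
        rw [hg]
        conv_lhs => rw [← he]
        rw [hy']; group
      exact ((mul_inv_eq_iff_eq_mul.1 this)).symm
    have hgX : g * z * g⁻¹ = X := by
      rw [hg, show k * (q * c)⁻¹ * z * (k * (q * c)⁻¹)⁻¹ = k * ((q * c)⁻¹ * z * (q * c)) * k⁻¹ by group,
        hqc.inv_left.eq, inv_mul_cancel_right]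
    exact ⟨g, hgy, hgoal g hgy hgX ⟨_, hqc.inv_left, rfl⟩⟩
  · obtain ⟨q, hq, he, -⟩ := coset_conj S.sys (R := rOneInv) rfl (by decide +kernel) (conj_cube hy'3 c)
      (sq_cube S.cube) hcy S.act_sq
    obtain ⟨d, hd, hdy⟩ := S.exists_inverter
    have hqc : Commute (q * c) z := (S.sys.large.commute_z hq).mul_left hc
    set g := k * ((q * c)⁻¹ * d) with hg
    have hgy : Commute y g := by
      show y * g = g * y
      have : g * y * g⁻¹ = y := by
        rw [hg, show k * ((q * c)⁻¹ * d) * y * (k * ((q * c)⁻¹ * d))⁻¹ =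
          k * ((q * c)⁻¹ * (d * y * d⁻¹) * (q * c)) * k⁻¹ by group, hdy, ← he, hy']
        group
      exact ((mul_inv_eq_iff_eq_mul.1 this)).symm
    have hgX : g * z * g⁻¹ = X := by
      rw [hg, show k * ((q * c)⁻¹ * d) * z * (k * ((q * c)⁻¹ * d))⁻¹ =
          k * ((q * c)⁻¹ * (d * z * d⁻¹) * (q * c)) * k⁻¹ by group, hd.1.eq, mul_inv_cancel_right, hqc.inv_left.eq,
        inv_mul_cancel_right]
    exact ⟨g, hgy, hgoal g hgy hgX ⟨_, hqc.inv_left.mul_left hd.1, rfl⟩⟩

end Std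

end CfsgLib.Recog.SuzThree
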